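import Cfsg.Agent.H662.IrrTransport
import Cfsg.Agent.Blocks.PrincipalKernel
import Cfsg.Agent.OddOrderLocal.PiCoreOf
import Cfsg.Agent.S0906
import Cfsg.Agent.S0911
import Cfsg.Agent.S0912
import Cfsg.Agent.S0919
import Cfsg.Agent.S0920
import Cfsg.Agent.S0938
import Cfsg.Agent.S0973

/-!
# Block induction inside intermediate subgroups, and kernels of blocks

* `isInducedBlockIn_iff`: for `K ≤ H`, the relation `IsInducedBlockIn M H K b f` is block induction
  from `K.subgroupOf H` to `↥H` of the transported block;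
* `trans_in`, `of_trans_in`: transitivity of block induction `K ≤ H ≤ G`;
* `le_blockKer_iff_of_induced` (and `_in`): if the block `b` of `L` induces `B` and `K` is a normal
  `p'`-subgroup of `G`, then `K ≤ ker B` iff `K ∩ L ≤ ker b`;
* `exists_root`: a block `B₀` of `G₀` with defect group `D₀`, `C_G(D₀) ≤ G₀`, is induced by a block
  of `D₀ C_G(D₀)` with defect group `D₀`;
* `exists_in_normalizer`: a block of `Q C_G(Q)` induces a block of `N_G(Q)`;
* `eq_conj_of_defect`: the block of `N_G(Q)` with defect group `Q` inducing `B` is conjugate to a given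
  Brauer correspondent of `B`.
-/

set_option autoImplicit false

open Cfsg

namespace Cfsg.Agent.H662

open Cfsg.Agent.Blocks.Basic (isDefectGroup_iff isSylowCentralizer_iff IsSylowCentralizer
  irr_isClassFunction isPBlock_nonempty irr_isCharacter)
open Cfsg.Agent.Blocks.Local
open Cfsg.Agent.Blocks.PrincipalKernel Cfsg.Agent.Blocks.ConvCentral

variable {G : Type*} [Group G]

/-- The isomorphism `K.subgroupOf H ≃* K` for `K ≤ H`. -/
noncomputable def eIn {K H : Subgroup G} (h : K ≤ H) : K.subgroupOf H ≃* K :=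
  Subgroup.subgroupOfEquivOfLe h

theorem coe_eIn {K H : Subgroup G} (h : K ≤ H) (x : K.subgroupOf H) :
    ((eIn h x : K) : G) = ((x : H) : G) := rfl

theorem coe_eIn_symm {K H : Subgroup G} (h : K ≤ H) (x : K) :
    ((((eIn h).symm x : K.subgroupOf H) : H) : G) = (x : G) := rfl

theorem inducedCentralCharIn_eq {K H : Subgroup G} (h : K ≤ H) (ξ : IrrCharacter K) (g : H) :
    inducedCentralCharIn H K (ξ : K → ℂ) (g : G) =
      inducedCentralChar (K.subgroupOf H) (tr (eIn h).symm ξ : _ → ℂ) g := by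
  rw [Cfsg.Agent.Blocks.Basic.inducedCentralChar_def]
  unfold inducedCentralCharIn
  rw [← finsum_comp_equiv (eIn h).symm.toEquiv]
  refine finsum_congr fun k => ?_
  have hk : ((eIn h).symm.toEquiv k ∈ {x : K.subgroupOf H | IsConj g (x : H)}) =
      (k ∈ {k : K | ∃ x : H, (x : G) * (k : G) * (x : G)⁻¹ = (g : G)}) := by
    apply propext
    simp only [Set.mem_ofPred_eq, MulEquiv.toEquiv_eq_coe, EquivLike.coe_coe]
    rw [isConj_comm, isConj_iff]
    constructor
    · rintro ⟨c, hc⟩
      refine ⟨c, ?_⟩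
      exact congrArg (Subtype.val : H → G) hc
    · rintro ⟨c, hc⟩
      exact ⟨c, Subtype.ext hc⟩
  rw [hk]
  refine finsum_congr fun _ => ?_
  change _ = (tr (eIn h).symm ξ : _ → ℂ) ((eIn h).symm k) / _
  rw [tr_apply_map, tr_apply_one]

theorem isInducedBlockIn_iff {M : Ideal AlgInt} {K H : Subgroup G} (h : K ≤ H)
    {b : Set (IrrCharacter K)} {f : Set (IrrCharacter H)} :
    IsInducedBlockIn M H K b f ↔ IsInducedBlock M (K.subgroupOf H) (trB (eIn h).symm b) f := by
  constructor
  · rintro ⟨hb, hf, h1⟩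
    refine ⟨isPBlock_trB _ hb, hf, fun ξ hξ χ hχ g => ?_⟩
    have h2 := h1 _ hξ χ hχ g
    rw [inducedCentralCharIn_eq h] at h2
    simpa using h2
  · rintro ⟨hb, hf, h1⟩
    refine ⟨(isPBlock_trB_iff _).1 hb, hf, fun ξ hξ χ hχ g => ?_⟩
    rw [inducedCentralCharIn_eq h]
    exact h1 _ ((tr_mem_trB _ _ _).2 hξ) χ hχ g

/-- Transitivity of block induction. -/
theorem trans_in [Finite G] {M : Ideal AlgInt} [M.IsPrime] {K H : Subgroup G} (h : K ≤ H)
    {b : Set (IrrCharacter K)} {f : Set (IrrCharacter H)} {B : Set (IrrCharacter G)}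
    (h1 : IsInducedBlockIn M H K b f) (h2 : IsInducedBlock M H f B) :
    IsInducedBlock M K b B := by
  have h3 := induced_trans (eIn h) (coe_eIn h) ((isInducedBlockIn_iff h).1 h1) h2
  simpa using h3

theorem of_trans_in [Finite G] {M : Ideal AlgInt} [M.IsPrime] {K H : Subgroup G} (h : K ≤ H)
    {b : Set (IrrCharacter K)} {f : Set (IrrCharacter H)} {B : Set (IrrCharacter G)}
    (h1 : IsInducedBlockIn M H K b f) (h2 : IsInducedBlock M K b B) :
    IsInducedBlock M H f B :=
  induced_of_trans (eIn h) (coe_eIn h) ((isInducedBlockIn_iff h).1 h1) (by simpa using h2)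

section Kernel

variable {p : ℕ} [Fact p.Prime] {M : Ideal AlgInt}

/-- The kernel of a block contains the normal `p'`-subgroup `K` iff the normalised sum of a member
over `K` is nonzero modulo `M`. -/
theorem le_blockKer_iff [Fintype G] (hM : IsPModular p M) (K : Subgroup G) [hKn : K.Normal]
    (hK : ¬ p ∣ Nat.card K) {B : Set (IrrCharacter G)} (hB : IsPBlock M B) {χ : IrrCharacter G}
    (hχ : χ ∈ B) : (∀ k ∈ K, k ∈ blockKer B) ↔
      ¬ MemLocalIdeal M (∑ g : G, (K : Set G).indicator 1 g * ((χ : G → ℂ) g / (χ : G → ℂ) 1)) := by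
  classical
  have hMp : M.IsPrime := hM.2.1.isPrime
  have hχ0 := irr_one_ne_zero χ.2
  have hlin : ∑ g : G, (K : Set G).indicator 1 g * ((χ : G → ℂ) g / (χ : G → ℂ) 1) =
      lin (χ : G → ℂ) ((K : Set G).indicator 1) / (χ : G → ℂ) 1 := by
    rw [lin_def, Finset.sum_div]
    exact Finset.sum_congr rfl fun g _ => by rw [mul_div_assoc]
  rw [hlin]
  have hKM : ¬ MemLocalIdeal M (Nat.card K : ℂ) := by
    rw [memLocalIdeal_natCast_iff hM]; exact hK
  constructor
  · intro h
    rw [lin_eq_of_apply_eq (fun n hn => h n hn χ hχ), mul_div_cancel_right₀ _ hχ0]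
    exact hKM
  · intro h
    have h1 : lin (χ : G → ℂ) ((K : Set G).indicator 1) = (Nat.card K : ℂ) * (χ : G → ℂ) 1 := by
      refine (sum_normal_eq χ.2 K).resolve_left fun h0 => h ?_
      rw [h0, zero_div]
      exact memLocalIdeal_zero
    obtain ⟨L, -, hL, -, -, h2⟩ := Cfsg.Agent.S0938.result p M hM B hB χ hχ
    have h3 := h2 K hKn hK fun g hg => apply_eq_of_lin (irr_isCharacter χ.2) h1 hg
    intro k hk
    have := h3 hk
    rw [← SetLike.mem_coe, hL] at this
    exact this

/-- If the block `b` of `L` induces `B` and `K` is a normal `p'`-subgroup of `G`, then `K` is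
contained in the kernel of `B` iff `K ∩ L` is contained in the kernel of `b`. -/
theorem le_blockKer_iff_of_induced [Finite G] (hM : IsPModular p M) (K : Subgroup G)
    [hKn : K.Normal] (hK : ¬ p ∣ Nat.card K) {L : Subgroup G} {b : Set (IrrCharacter L)}
    {B : Set (IrrCharacter G)} (h : IsInducedBlock M L b B) :
    (∀ k ∈ K, k ∈ blockKer B) ↔ ∀ x : L, (x : G) ∈ K → x ∈ blockKer b := by
  classical
  have hMp : M.IsPrime := hM.2.1.isPrime
  have := Fintype.ofFinite G
  have := Fintype.ofFinite L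
  obtain ⟨ξ, hξ⟩ := isPBlock_nonempty h.1
  obtain ⟨χ, hχ⟩ := isPBlock_nonempty h.2.1
  have hK' : ¬ p ∣ Nat.card (K.subgroupOf L) := fun hd =>
    hK (hd.trans (by
      have h1 : Nat.card (K.subgroupOf L) = Nat.card ((K.subgroupOf L).map L.subtype) :=
        Nat.card_congr ((K.subgroupOf L).equivMapOfInjective L.subtype L.subtype_injective).toEquiv
      rw [h1]
      exact Subgroup.card_dvd_of_le (by
        rw [Subgroup.subgroupOf_map_subtype]; exact inf_le_left)))
  have h1 : (∀ x : L, (x : G) ∈ K → x ∈ blockKer b) ↔ ∀ x ∈ K.subgroupOf L, x ∈ blockKer b :=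
    Iff.rfl
  rw [h1, le_blockKer_iff hM K hK h.2.1 hχ, le_blockKer_iff hM (K.subgroupOf L) hK' h.1 hξ]
  have hcl : IsClassFunction G ((K : Set G).indicator 1 : G → ℂ) := by
    intro g x
    by_cases hg : g ∈ (K : Set G)
    · rw [Set.indicator_of_mem hg, Set.indicator_of_mem ((mem_conj_iff K g x).2 hg)]
      rfl
    · rw [Set.indicator_of_notMem hg,
        Set.indicator_of_notMem fun h => hg ((mem_conj_iff K g x).1 h)]
  have hR : ∀ g, MemLocalRing M ((K : Set G).indicator (1 : G → ℂ) g) := by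
    intro g
    by_cases hg : g ∈ (K : Set G)
    · rw [Set.indicator_of_mem hg]; exact memLocalRing_one
    · rw [Set.indicator_of_notMem hg]; exact memLocalRing_zero
  have h2 := Cfsg.Agent.Blocks.ClassSum.memLocalIdeal_of_induced L (irr_isClassFunction χ.2)
    (h.2.2 ξ hξ χ hχ) hcl hR
  have h3 : ∑ x : L, (K : Set G).indicator (1 : G → ℂ) (x : G) * ((ξ : L → ℂ) x / (ξ : L → ℂ) 1) =
      ∑ x : L, ((K.subgroupOf L : Subgroup L) : Set L).indicator (1 : L → ℂ) x *
        ((ξ : L → ℂ) x / (ξ : L → ℂ) 1) := by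
    refine Finset.sum_congr rfl fun x _ => ?_
    congr 1
  rw [h3] at h2
  rw [memLocalIdeal_iff_of_sub h2]

/-- The same inside `H`. -/
theorem le_blockKer_iff_in [Finite G] (hM : IsPModular p M) {K H : Subgroup G} (hKH : K ≤ H)
    {b : Set (IrrCharacter K)} {f : Set (IrrCharacter H)} (h : IsInducedBlockIn M H K b f)
    (A : Subgroup H) [hA : A.Normal] (hAp : ¬ p ∣ Nat.card A) :
    (∀ a ∈ A, a ∈ blockKer f) ↔ ∀ x : K, (⟨(x : G), hKH x.2⟩ : H) ∈ A → x ∈ blockKer b := by
  rw [le_blockKer_iff_of_induced hM A hAp ((isInducedBlockIn_iff hKH).1 h)]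
  constructor
  · intro h1 x hx
    rw [← mem_blockKer_trB (eIn hKH).symm b]
    exact h1 _ hx
  · intro h1 x hx
    have h2 := h1 (eIn hKH x) hx
    rw [← mem_blockKer_trB (eIn hKH).symm b, MulEquiv.symm_apply_apply] at h2
    exact h2

end Kernel

section Local

variable {p : ℕ} [Fact p.Prime] {M : Ideal AlgInt}

/-- Every block has a defect group. -/
theorem exists_defectGroup [Finite G] (hM : IsPModular p M) {B : Set (IrrCharacter G)}
    (hB : IsPBlock M B) : ∃ D : Subgroup G, IsDefectGroup p M B D := by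
  obtain ⟨g, hg⟩ := Cfsg.Agent.S0906.result p M hM B hB
  obtain ⟨P⟩ : Nonempty (Sylow p (Subgroup.centralizer ({g} : Set G))) := inferInstance
  exact ⟨_, g, hg, P, rfl⟩

/-- Defect groups are conjugate. -/
theorem defectGroup_conj [Finite G] (hM : IsPModular p M) {B : Set (IrrCharacter G)}
    (hB : IsPBlock M B) {D D' : Subgroup G} (hD : IsDefectGroup p M B D)
    (hD' : IsDefectGroup p M B D') : ∃ x : G, D' = D.map (MulAut.conj x).toMonoidHom := by
  obtain ⟨g, hg, P, rfl⟩ := hD
  obtain ⟨g', hg', P', rfl⟩ := hD'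
  obtain ⟨x, Q, hQ⟩ := (Cfsg.Agent.S0911.result p M hM B hB g hg P g').1 hg'.1 hg'.2.1
  have hcard : Nat.card ((P' : Subgroup (Subgroup.centralizer ({g'} : Set G))).map
      (Subgroup.centralizer ({g'} : Set G)).subtype) =
      Nat.card ((P : Subgroup (Subgroup.centralizer ({g} : Set G))).map
      (Subgroup.centralizer ({g} : Set G)).subtype) := by
    have h1 := Cfsg.Agent.S0908.result p M hM B hB _ ⟨g', hg', P', rfl⟩
    have h2 := Cfsg.Agent.S0908.result p M hM B hB _ ⟨g, hg, P, rfl⟩
    exact h1.trans h2.symm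
  obtain ⟨c, -, hPQ⟩ := Cfsg.Agent.Blocks.Basic.isSylowCentralizer_conj_of_isConj
    (p := p) (g := g') (h := g') ⟨Q, rfl⟩ ⟨P', rfl⟩ (IsConj.refl g')
  refine ⟨c * x, ?_⟩
  have hle : (P' : Subgroup (Subgroup.centralizer ({g'} : Set G))).map
      (Subgroup.centralizer ({g'} : Set G)).subtype ≤
      ((P : Subgroup (Subgroup.centralizer ({g} : Set G))).map
      (Subgroup.centralizer ({g} : Set G)).subtype).map
        (MulAut.conj (c * x)).toMonoidHom := by
    rw [hPQ, ← Cfsg.Agent.Blocks.Basic.map_conj_map_conj]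
    exact Subgroup.map_mono hQ
  refine Subgroup.eq_of_le_of_card_ge hle ?_
  rw [hcard]
  exact (Nat.card_congr (Subgroup.equivMapOfInjective _ _
    (MulAut.conj (c * x)).injective).toEquiv).ge

omit [Fact p.Prime] in
theorem isDefectGroup_isPGroup {B : Set (IrrCharacter G)} {D : Subgroup G}
    (hD : IsDefectGroup p M B D) : IsPGroup p D :=
  Cfsg.Agent.Blocks.Basic.isPGroup_of_isDefectGroup hD

theorem map_centralizer_eq {G₀ : Subgroup G} (D₀ : Subgroup G₀)
    (hC : Subgroup.centralizer ((D₀.map G₀.subtype : Subgroup G) : Set G) ≤ G₀) :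
    (Subgroup.centralizer (D₀ : Set G₀)).map G₀.subtype =
      Subgroup.centralizer ((D₀.map G₀.subtype : Subgroup G) : Set G) := by
  ext x
  rw [Subgroup.mem_map]
  constructor
  · rintro ⟨y, hy, rfl⟩
    rw [Subgroup.mem_centralizer_iff] at hy ⊢
    rintro _ ⟨z, hz, rfl⟩
    exact congrArg Subtype.val (hy z hz)
  · intro hx
    refine ⟨⟨x, hC hx⟩, ?_, rfl⟩
    rw [Subgroup.mem_centralizer_iff] at hx ⊢
    intro z hz
    exact Subtype.ext (hx (z : G) ⟨z, hz, rfl⟩)

/-- A block `B₀` of `G₀` with defect group `D₀` such that `C_G(D₀) ≤ G₀` is induced by a block of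
`D₀ C_G(D₀)` with defect group `D₀`. -/
theorem exists_root [Finite G] (hM : IsPModular p M) {G₀ : Subgroup G}
    {B₀ : Set (IrrCharacter G₀)} (hB₀ : IsPBlock M B₀) {D₀ : Subgroup G₀}
    (hD₀ : IsDefectGroup p M B₀ D₀) {Q : Subgroup G} (hQ : D₀.map G₀.subtype = Q)
    (hC : Subgroup.centralizer (Q : Set G) ≤ G₀) :
    ∃ b : Set (IrrCharacter ↥(Q ⊔ Subgroup.centralizer (Q : Set G))),
      IsInducedBlockIn M G₀ (Q ⊔ Subgroup.centralizer (Q : Set G)) b B₀ ∧
      IsDefectGroup p M b (Q.subgroupOf (Q ⊔ Subgroup.centralizer (Q : Set G))) := by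
  subst hQ
  set Q : Subgroup G := D₀.map G₀.subtype with hQ
  set K : Subgroup G := Q ⊔ Subgroup.centralizer (Q : Set G) with hK
  have hQG : Q ≤ G₀ := by rw [hQ]; exact Subgroup.map_subtype_le D₀
  have hKG : K ≤ G₀ := sup_le hQG hC
  have heq : D₀ ⊔ Subgroup.centralizer (D₀ : Set G₀) = K.subgroupOf G₀ := by
    apply Subgroup.map_injective G₀.subtype_injective
    rw [Subgroup.map_sup, map_centralizer_eq D₀ hC, Subgroup.subgroupOf_map_subtype,
      inf_eq_left.2 hKG]
  obtain ⟨b', hb'D, hb'⟩ := (Cfsg.Agent.S0973.result p M hM B₀ hB₀ D₀ hD₀).1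
  revert b'
  rw [heq]
  intro b' hb'D hb'
  refine ⟨trB (eIn hKG) b', ?_, ?_⟩
  · rw [isInducedBlockIn_iff hKG]
    simpa using hb'
  · have h1 := isDefectGroup_trB (eIn hKG) hb'D
    convert h1 using 1
    ext x
    rw [Subgroup.mem_subgroupOf, Subgroup.mem_map]
    constructor
    · intro hx
      refine ⟨(eIn hKG).symm x, ?_, (eIn hKG).apply_symm_apply x⟩
      rw [SetLike.mem_coe, Subgroup.mem_subgroupOf]
      obtain ⟨y, hy, hyx⟩ := hx
      have h2 : (((eIn hKG).symm x : K.subgroupOf G₀) : G₀) = y := Subtype.ext hyx.symm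
      rw [h2]
      exact hy
    · rintro ⟨y, hy, rfl⟩
      rw [SetLike.mem_coe, Subgroup.mem_subgroupOf] at hy
      exact ⟨_, hy, rfl⟩

/-- A block `b` of `K`, `Q C_G(Q) ≤ K ≤ N_G(Q)`, induces a block of every `N ≥ K`; if `b` induces the
block `B` of `G` then so does that block. -/
theorem exists_in_overgroup [Finite G] (hM : IsPModular p M) {Q K N : Subgroup G}
    (hQ : IsPGroup p Q) (hQK : Q ≤ K) (hCK : Subgroup.centralizer (Q : Set G) ≤ K)
    (hKQ : K ≤ Subgroup.normalizer (Q : Set G)) (hKN : K ≤ N) {b : Set (IrrCharacter K)}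
    (hb : IsPBlock M b) : ∃ f : Set (IrrCharacter N), IsInducedBlockIn M N K b f ∧
      ∀ B : Set (IrrCharacter G), IsInducedBlock M K b B → IsInducedBlock M N f B := by
  have hMp : M.IsPrime := hM.2.1.isPrime
  have hQN : Q ≤ N := hQK.trans hKN
  have h1 : InducedBlockDefined M (K.subgroupOf N) (trB (eIn hKN).symm b) := by
    refine Cfsg.Agent.S0919.result p M hM (Q.subgroupOf N) (K.subgroupOf N) ?_ ?_ ?_ ?_ _
      (isPBlock_trB _ hb)
    · exact hQ.comap_of_injective N.subtype N.subtype_injective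
    · exact Subgroup.comap_mono hQK
    · intro x hx
      rw [Subgroup.mem_subgroupOf]
      apply hCK
      rw [Subgroup.mem_centralizer_iff] at hx ⊢
      intro y hy
      exact congrArg Subtype.val (hx ⟨y, hQN hy⟩ hy)
    · intro x hx
      have hx' := hKQ hx
      rw [Subgroup.mem_normalizer_iff] at hx' ⊢
      intro y
      exact hx' (y : G)
  obtain ⟨f, hf⟩ := h1
  refine ⟨f, (isInducedBlockIn_iff hKN).2 hf, fun B hB => ?_⟩
  exact of_trans_in hKN ((isInducedBlockIn_iff hKN).2 hf) hB

/-- Defect groups of blocks of a subgroup `N` normalising the `p`-subgroup `Q ≤ N` contain `Q`. -/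
theorem le_defectGroup_of_normal [Finite G] (hM : IsPModular p M) {Q N : Subgroup G}
    (hQ : IsPGroup p Q) (hNQ : N ≤ Subgroup.normalizer (Q : Set G)) {f : Set (IrrCharacter N)}
    (hf : IsPBlock M f) {R : Subgroup N} (hR : IsDefectGroup p M f R) : Q.subgroupOf N ≤ R := by
  refine le_trans ?_ (Cfsg.Agent.S0912.result p M hM f hf R hR)
  refine le_sSup ⟨⟨fun x hx g => ?_⟩, hQ.comap_of_injective N.subtype N.subtype_injective⟩
  rw [Subgroup.mem_subgroupOf] at hx ⊢
  exact (Subgroup.mem_normalizer_iff.1 (hNQ g.2) _).1 hx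

/-- Conjugation by `g` as an isomorphism between normalizers. -/
noncomputable def conjNorm (D : Subgroup G) (g : G) :
    ↥(Subgroup.normalizer (D : Set G)) ≃*
      ↥(Subgroup.normalizer ((D.map (MulAut.conj g).toMonoidHom : Subgroup G) : Set G)) :=
  ((Subgroup.normalizer (D : Set G)).equivMapOfInjective (MulAut.conj g).toMonoidHom
    (MulAut.conj g).injective).trans (MulEquiv.subgroupCongr (by
      ext x
      rw [Subgroup.mem_map, Subgroup.mem_normalizer_iff]
      constructor
      · rintro ⟨y, hy, rfl⟩ h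
        rw [Subgroup.mem_normalizer_iff] at hy
        simp only [Subgroup.mem_map, MulEquiv.toMonoidHom_eq_coe,
          MonoidHom.coe_coe, MulAut.conj_apply]
        constructor
        · rintro ⟨z, hz, rfl⟩
          exact ⟨y * z * y⁻¹, (hy z).1 hz, by group⟩
        · rintro ⟨z, hz, hz'⟩
          refine ⟨y⁻¹ * z * y, ?_, ?_⟩
          · refine (hy _).2 ?_
            have : y * (y⁻¹ * z * y) * y⁻¹ = z := by group
            rw [this]; exact hz
          · have h1 : z = y * (g⁻¹ * h * g) * y⁻¹ := by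
              have h2 : z = g⁻¹ * (g * z * g⁻¹) * g := by group
              rw [h2, hz']; group
            rw [h1]; group
      · intro hx
        refine ⟨g⁻¹ * x * g, ?_, by simp [MulAut.conj_apply]; group⟩
        rw [Subgroup.mem_normalizer_iff]
        intro h
        have h1 := hx (g * h * g⁻¹)
        simp only [Subgroup.mem_map, MulEquiv.toMonoidHom_eq_coe,
          MonoidHom.coe_coe, MulAut.conj_apply] at h1
        constructor
        · intro hh
          obtain ⟨z, hz, hz'⟩ := h1.1 ⟨h, hh, rfl⟩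
          have h2 : g⁻¹ * x * g * h * (g⁻¹ * x * g)⁻¹ = z := by
            have h3 : z = g⁻¹ * (g * z * g⁻¹) * g := by group
            rw [h3, hz']; group
          rw [h2]; exact hz
        · intro hh
          obtain ⟨z, hz, hz'⟩ := h1.2 ⟨_, hh, by group⟩
          have h2 : h = z := by
            have h3 : z = g⁻¹ * (g * z * g⁻¹) * g := by group
            rw [h3, hz']; group
          rw [h2]; exact hz))

theorem coe_conjNorm (D : Subgroup G) (g : G) (x : ↥(Subgroup.normalizer (D : Set G))) :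
    ((conjNorm D g x : _) : G) = g * (x : G) * g⁻¹ := rfl

/-- The block of `N_G(Q)` with defect group `Q` inducing `B` is conjugate to any given Brauer
correspondent `B₁` of `B`. -/
theorem eq_conj_of_defect [Finite G] (hM : IsPModular p M) {B : Set (IrrCharacter G)}
    (hB : IsPBlock M B) {D : Subgroup G} (hD : IsDefectGroup p M B D)
    {B₁ : Set (IrrCharacter ↥(Subgroup.normalizer (D : Set G)))}
    (hB₁ : IsInducedBlock M (Subgroup.normalizer (D : Set G)) B₁ B)
    (hB₁D : IsDefectGroup p M B₁ (D.subgroupOf (Subgroup.normalizer (D : Set G))))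
    {Q : Subgroup G} (hQ : IsPGroup p Q)
    {f : Set (IrrCharacter ↥(Subgroup.normalizer (Q : Set G)))}
    (hf : IsInducedBlock M (Subgroup.normalizer (Q : Set G)) f B)
    (hfQ : IsDefectGroup p M f (Q.subgroupOf (Subgroup.normalizer (Q : Set G)))) :
    ∃ (g : G) (e : ↥(Subgroup.normalizer (D : Set G)) ≃* ↥(Subgroup.normalizer (Q : Set G))),
      (∀ x, ((e x : _) : G) = g * (x : G) * g⁻¹) ∧ Q = D.map (MulAut.conj g).toMonoidHom ∧
      f = trB e B₁ := by
  have hMp : M.IsPrime := hM.2.1.isPrime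
  obtain ⟨B', hB', hB'Q, hind⟩ := (Cfsg.Agent.S0920.result p M hM Q hQ).1 f hf.1 hfQ
  have hBB' : B' = B := inducedBlock_unique hind hf
  subst hBB'
  obtain ⟨g, rfl⟩ := defectGroup_conj hM hB hD hB'Q
  refine ⟨g, conjNorm D g, coe_conjNorm D g, rfl, ?_⟩
  refine ((Cfsg.Agent.S0920.result p M hM _ hQ).2 B' hB hB'Q).unique ⟨hf.1, hfQ, hf⟩
    ⟨isPBlock_trB _ hB₁.1, ?_, ?_⟩
  · have h1 := isDefectGroup_trB (conjNorm D g) hB₁D
    convert h1 using 1
    ext x
    rw [Subgroup.mem_subgroupOf, Subgroup.mem_map]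
    constructor
    · intro hx
      refine ⟨(conjNorm D g).symm x, ?_, (conjNorm D g).apply_symm_apply x⟩
      rw [SetLike.mem_coe, Subgroup.mem_subgroupOf]
      obtain ⟨y, hy, hyx⟩ := hx
      have h2 := coe_conjNorm D g ((conjNorm D g).symm x)
      rw [MulEquiv.apply_symm_apply, ← hyx] at h2
      have h3 : y = (((conjNorm D g).symm x : _) : G) := by
        have h4 : g * y * g⁻¹ = g * (((conjNorm D g).symm x : _) : G) * g⁻¹ := h2
        exact mul_left_cancel (mul_right_cancel h4)
      rw [← h3]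
      exact hy
    · rintro ⟨y, hy, rfl⟩
      rw [SetLike.mem_coe, Subgroup.mem_subgroupOf] at hy
      exact ⟨_, hy, rfl⟩
  · refine induced_conj (conjNorm D g) (fun x => ?_) hB₁
    rw [coe_conjNorm, isConj_iff]
    exact ⟨g, rfl⟩

end Local

end Cfsg.Agent.H662
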