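import Mathlib

/-!
# Splitting by a weighted average and a rank inequality

`ρ` is a representation of a finite group `H` over an algebraically closed field of characteristic
`p` and `e : H → K` a weight of total mass one such that all averages
`∑ g, e g • ρ g * a * ρ g⁻¹` commute with `H`.  Then all invariant subspaces split, the irreducible
ones have dimension prime to `p`, and the dimension of the space is bounded (`finrank_le`).
-/

set_option autoImplicit false
open Module

namespace Cfsg.Agent.H662.KeyAbs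

variable {K : Type*} [Field K] {H : Type*} [Group H] {V : Type*} [AddCommGroup V] [Module K V]

/-- Invariant subspaces. -/
def Inv (ρ : Representation K H V) (S : Submodule K V) : Prop := ∀ g, ∀ v ∈ S, ρ g v ∈ S

/-- Minimal nonzero invariant subspaces. -/
def MinInv (ρ : Representation K H V) (N : Submodule K V) : Prop :=
  Inv ρ N ∧ N ≠ ⊥ ∧ ∀ S : Submodule K V, Inv ρ S → S ≤ N → S ≠ ⊥ → S = N

theorem exists_minInv [FiniteDimensional K V] (ρ : Representation K H V) (S : Submodule K V)
    (hS : Inv ρ S) (h0 : S ≠ ⊥) : ∃ N ≤ S, MinInv ρ N := by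
  induction hn : finrank K S using Nat.strong_induction_on generalizing S with
  | _ n ih =>
    by_cases hmin : ∃ T : Submodule K V, Inv ρ T ∧ T ≤ S ∧ T ≠ ⊥ ∧ T ≠ S
    · obtain ⟨T, hT, hTS, hT0, hTne⟩ := hmin
      have hlt : finrank K T < finrank K S :=
        Submodule.finrank_lt_finrank_of_lt (lt_of_le_of_ne hTS hTne)
      obtain ⟨N, hN, hN'⟩ := ih (finrank K T) (hn ▸ hlt) T hT hT0 rfl
      exact ⟨N, hN.trans hTS, hN'⟩
    · push Not at hmin
      exact ⟨S, le_rfl, hS, h0, fun T hT hTS hT0 => hmin T hT hTS hT0⟩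

section avg

variable [Fintype H]

/-- The weighted average of an endomorphism. -/
noncomputable def avg (ρ : Representation K H V) (e : H → K) (a : Module.End K V) :
    Module.End K V := ∑ g, e g • (ρ g * a * ρ g⁻¹)

theorem avg_apply (ρ : Representation K H V) (e : H → K) (a : Module.End K V) (v : V) :
    avg ρ e a v = ∑ g, e g • ρ g (a (ρ g⁻¹ v)) := by
  simp [avg, LinearMap.sum_apply, Module.End.mul_apply]

theorem trace_avg (ρ : Representation K H V) (e : H → K) (he : ∑ g, e g = 1)
    (a : Module.End K V) : LinearMap.trace K V (avg ρ e a) = LinearMap.trace K V a := by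
  have h1 : ∀ g, LinearMap.trace K V (ρ g * a * ρ g⁻¹) = LinearMap.trace K V a := by
    intro g
    rw [LinearMap.trace_mul_comm, ← mul_assoc, ← map_mul, inv_mul_cancel, map_one, one_mul]
  rw [avg, map_sum]
  simp only [map_smul, h1, smul_eq_mul]
  rw [← Finset.sum_mul, he, one_mul]

theorem avg_mem (ρ : Representation K H V) (e : H → K) (a : Module.End K V) {S : Submodule K V}
    (hS : Inv ρ S) (ha : ∀ v, a v ∈ S) (v : V) : avg ρ e a v ∈ S := by
  rw [avg_apply]
  exact Submodule.sum_mem _ fun g _ => Submodule.smul_mem _ _ (hS g _ (ha _))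

theorem avg_fix (ρ : Representation K H V) (e : H → K) (he : ∑ g, e g = 1) (a : Module.End K V)
    {S : Submodule K V} (hS : Inv ρ S) (ha : ∀ v ∈ S, a v = v) {v : V} (hv : v ∈ S) :
    avg ρ e a v = v := by
  rw [avg_apply]
  have h1 : ∀ g, ρ g (a (ρ g⁻¹ v)) = v := by
    intro g
    rw [ha _ (hS _ _ hv), ← Module.End.mul_apply, ← map_mul, mul_inv_cancel, map_one,
      Module.End.one_apply]
  simp only [h1]
  rw [← Finset.sum_smul, he, one_smul]

/-- Invariant complements. -/
theorem exists_compl (ρ : Representation K H V) (e : H → K) (he : ∑ g, e g = 1)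
    (hE : ∀ (a : Module.End K V) (h : H), ρ h * avg ρ e a = avg ρ e a * ρ h)
    {N S : Submodule K V} (hN : Inv ρ N) (hS : Inv ρ S) (hNS : N ≤ S) :
    ∃ S' : Submodule K V, Inv ρ S' ∧ S' ≤ S ∧ N ⊓ S' = ⊥ ∧ N ⊔ S' = S := by
  obtain ⟨π, hπ⟩ := LinearMap.exists_leftInverse_of_injective N.subtype
    (LinearMap.ker_eq_bot.2 N.injective_subtype)
  set a : Module.End K V := N.subtype ∘ₗ π with ha
  have ha1 : ∀ v, a v ∈ N := fun v => (π v).2
  have ha2 : ∀ v ∈ N, a v = v := by
    intro v hv
    have := LinearMap.congr_fun hπ ⟨v, hv⟩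
    have h2 : π v = ⟨v, hv⟩ := this
    show ((π v : N) : V) = v
    rw [h2]
  have h1 : ∀ v, avg ρ e a v ∈ N := avg_mem ρ e a hN ha1
  have h2 : ∀ v ∈ N, avg ρ e a v = v := fun v hv => avg_fix ρ e he a hN ha2 hv
  refine ⟨S ⊓ LinearMap.ker (avg ρ e a), ?_, inf_le_left, ?_, ?_⟩
  · rintro g v ⟨hv, hv'⟩
    refine ⟨hS g v hv, ?_⟩
    rw [SetLike.mem_coe, LinearMap.mem_ker] at hv' ⊢
    rw [← Module.End.mul_apply, ← hE, Module.End.mul_apply, hv', map_zero]
  · rw [eq_bot_iff]
    rintro v ⟨hv, -, hv'⟩
    rw [SetLike.mem_coe, LinearMap.mem_ker, h2 v hv] at hv'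
    exact (Submodule.mem_bot K).2 hv'
  · apply le_antisymm (sup_le hNS inf_le_left)
    intro v hv
    have h3 : v = avg ρ e a v + (v - avg ρ e a v) := by abel
    rw [h3]
    refine Submodule.add_mem_sup (h1 v) ⟨S.sub_mem hv (hNS (h1 v)), ?_⟩
    rw [SetLike.mem_coe, LinearMap.mem_ker, map_sub, h2 _ (h1 v), sub_self]

variable [FiniteDimensional K V]

omit [Fintype H] in
/-- Schur's lemma for a minimal invariant subspace. -/
theorem exists_scalar [IsAlgClosed K] (ρ : Representation K H V) {N : Submodule K V}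
    (hN : MinInv ρ N) (f : Module.End K V) (hf : ∀ h, ρ h * f = f * ρ h)
    (hfN : ∀ v ∈ N, f v ∈ N) : ∃ c : K, ∀ v ∈ N, f v = c • v := by
  have hnt : Nontrivial N := Submodule.nontrivial_iff_ne_bot.2 hN.2.1
  obtain ⟨c, hc⟩ := Module.End.exists_eigenvalue (f.restrict hfN)
  obtain ⟨w, hw⟩ := hc.exists_hasEigenvector
  refine ⟨c, ?_⟩
  have h1 : Inv ρ (N ⊓ LinearMap.ker (f - c • LinearMap.id)) := by
    rintro g v ⟨hv, hv'⟩
    refine ⟨hN.1 g v hv, ?_⟩
    rw [SetLike.mem_coe, LinearMap.mem_ker, LinearMap.sub_apply, LinearMap.smul_apply,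
      LinearMap.id_apply, sub_eq_zero] at hv' ⊢
    rw [← Module.End.mul_apply, ← hf, Module.End.mul_apply, hv', map_smul]
  have h2 : N ⊓ LinearMap.ker (f - c • LinearMap.id) = N := by
    apply hN.2.2 _ h1 inf_le_left
    rw [Submodule.ne_bot_iff]
    refine ⟨w, ⟨w.2, ?_⟩, ?_⟩
    · have := hw.apply_eq_smul
      rw [SetLike.mem_coe, LinearMap.mem_ker, LinearMap.sub_apply, LinearMap.smul_apply,
        LinearMap.id_apply, sub_eq_zero]
      exact congrArg Subtype.val this
    · intro h
      exact hw.2 (Subtype.ext h)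
  intro v hv
  rw [← h2] at hv
  have := hv.2
  rw [SetLike.mem_coe, LinearMap.mem_ker, LinearMap.sub_apply, LinearMap.smul_apply,
    LinearMap.id_apply, sub_eq_zero] at this
  exact this

/-- Minimal invariant subspaces have dimension prime to `p`. -/
theorem not_dvd_finrank [IsAlgClosed K] (p : ℕ) [CharP K p]
    (ρ : Representation K H V) (e : H → K) (he : ∑ g, e g = 1)
    (hE : ∀ (a : Module.End K V) (h : H), ρ h * avg ρ e a = avg ρ e a * ρ h)
    {N : Submodule K V} (hN : MinInv ρ N) : ¬ p ∣ finrank K N := by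
  obtain ⟨v, hv, hv0⟩ := (Submodule.ne_bot_iff _).1 hN.2.1
  obtain ⟨f, hf⟩ : ∃ f : Module.Dual K V, f v = 1 := Module.Projective.exists_dual_eq_one K hv0
  set a : Module.End K V := f.smulRight v with ha
  have ha1 : ∀ w, a w ∈ N := fun w => by
    rw [ha, LinearMap.smulRight_apply]
    exact N.smul_mem _ hv
  have h1 : ∀ w, avg ρ e a w ∈ N := avg_mem ρ e a hN.1 ha1
  obtain ⟨c, hc⟩ := exists_scalar ρ hN (avg ρ e a) (hE a) fun w _ => h1 w
  have h2 : LinearMap.trace K V (avg ρ e a) = 1 := by
    rw [trace_avg ρ e he, ha, LinearMap.trace_smulRight, hf]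
  rw [← LinearMap.trace_restrict_eq_of_forall_mem N (avg ρ e a) h1] at h2
  have h3 : (avg ρ e a).restrict (fun x _ => h1 x) = c • (LinearMap.id : N →ₗ[K] N) := by
    ext w
    simp only [LinearMap.coe_restrict_apply, LinearMap.smul_apply, LinearMap.id_apply,
      Submodule.coe_smul]
    exact hc w w.2
  rw [h3, map_smul, LinearMap.trace_id, smul_eq_mul] at h2
  intro hdvd
  rw [(CharP.cast_eq_zero_iff K p _).2 hdvd, mul_zero] at h2
  exact zero_ne_one h2

end avg

section rank

theorem finrank_eq_map_add [FiniteDimensional K V] (f : Module.End K V) (W : Submodule K V) :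
    finrank K W = finrank K (W.map f) + finrank K (W ⊓ LinearMap.ker f : Submodule K V) := by
  have h1 := LinearMap.finrank_range_add_finrank_ker (f.domRestrict W)
  rw [LinearMap.range_domRestrict, LinearMap.ker_domRestrict] at h1
  rw [← h1, ← Submodule.map_comap_subtype, Submodule.finrank_map_subtype_eq]

theorem map_pow_le {y : Module.End K V} {N : Submodule K V} (hN : ∀ v ∈ N, y v ∈ N) (k : ℕ) :
    N.map (y ^ k) ≤ N := by
  induction k with
  | zero => simp [Submodule.map_id, Module.End.one_eq_id]
  | succ k ih =>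
    rintro _ ⟨v, hv, rfl⟩
    rw [pow_succ', Module.End.mul_apply]
    exact hN _ (ih ⟨v, hv, rfl⟩)

theorem map_pow_antitone {y : Module.End K V} {N : Submodule K V} (hN : ∀ v ∈ N, y v ∈ N)
    {k l : ℕ} (hkl : k ≤ l) : N.map (y ^ l) ≤ N.map (y ^ k) := by
  obtain ⟨m, rfl⟩ := Nat.exists_eq_add_of_le hkl
  rw [pow_add, Module.End.mul_eq_comp, Submodule.map_comp]
  exact Submodule.map_mono (map_pow_le hN m)

/-- If the kernel of `y` on `N` is in the image of `y ^ (p - 1)`, then `p ∣ dim N`. -/
theorem dvd_of_le [FiniteDimensional K V] {y : Module.End K V} {p : ℕ} (hp : 0 < p)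
    (hy : y ^ p = 0) {N : Submodule K V} (hN : ∀ v ∈ N, y v ∈ N)
    (h : finrank K (N ⊓ LinearMap.ker y : Submodule K V) ≤ finrank K (N.map (y ^ (p - 1)))) :
    p ∣ finrank K N := by
  have h1 : N.map (y ^ (p - 1)) ≤ N ⊓ LinearMap.ker y := by
    refine le_inf (map_pow_le hN _) ?_
    rintro _ ⟨v, hv, rfl⟩
    rw [LinearMap.mem_ker, ← Module.End.mul_apply, ← pow_succ', Nat.sub_add_cancel hp, hy,
      LinearMap.zero_apply]
  have h2 : N.map (y ^ (p - 1)) = N ⊓ LinearMap.ker y := Submodule.eq_of_le_of_finrank_le h1 h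
  have h3 : ∀ k, k ≤ p - 1 → N.map (y ^ k) ⊓ LinearMap.ker y = N ⊓ LinearMap.ker y := by
    intro k hk
    apply le_antisymm (inf_le_inf_right _ (map_pow_le hN k))
    refine le_inf ?_ inf_le_right
    rw [← h2]
    exact map_pow_antitone hN hk
  set c := finrank K (N ⊓ LinearMap.ker y : Submodule K V) with hc
  have h4 : ∀ k, k < p → finrank K (N.map (y ^ k)) = finrank K (N.map (y ^ (k + 1))) + c := by
    intro k hk
    have := finrank_eq_map_add y (N.map (y ^ k))
    rw [h3 k (by omega), ← Submodule.map_comp, ← Module.End.mul_eq_comp, ← pow_succ'] at this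
    exact this
  have h5 : ∀ k, k ≤ p → finrank K (N.map (y ^ (p - k))) = k * c := by
    intro k
    induction k with
    | zero =>
      intro _
      rw [Nat.sub_zero, hy, Submodule.map_zero, finrank_bot, zero_mul]
    | succ k ih =>
      intro hk
      have h6 := h4 (p - (k + 1)) (by omega)
      have h7 : p - (k + 1) + 1 = p - k := by omega
      rw [h7, ih (by omega)] at h6
      rw [h6]; ring
  have h6 := h5 p le_rfl
  rw [Nat.sub_self, pow_zero, Module.End.one_eq_id, Submodule.map_id] at h6
  exact ⟨c, h6⟩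

theorem geom_sum_eq {R : Type*} [Ring R] {p : ℕ} [Fact p.Prime] [CharP R p] (x : R) :
    ∑ k ∈ Finset.range p, x ^ k = (x - 1) ^ (p - 1) := by
  let _ : Algebra (ZMod p) R := ZMod.algebra R p
  have h1 := Polynomial.cyclotomic_mul_prime_eq_pow_of_not_dvd (ZMod p) (p := p) (n := 1)
    (fun h => (Fact.out : p.Prime).one_lt.ne' (Nat.dvd_one.1 h))
  rw [one_mul, Polynomial.cyclotomic_prime, Polynomial.cyclotomic_one] at h1
  have h2 := congrArg (Polynomial.aeval x) h1
  simpa using h2

end rank

section main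

variable [FiniteDimensional K V]

/-- Irreducible constituents have dimension at most `D`, so the dimension of an invariant subspace
is at most `D` times the number of non-free Jordan blocks of an element of order `p`. -/
theorem finrank_add_le [IsAlgClosed K] (p : ℕ) [Fact p.Prime] [CharP K p] [Fintype H]
    (ρ : Representation K H V) (e : H → K) (he : ∑ g, e g = 1)
    (hE : ∀ (a : Module.End K V) (h : H), ρ h * avg ρ e a = avg ρ e a * ρ h)
    (x : H) (hx : x ^ p = 1) (D : ℕ) (hD : ∀ N : Submodule K V, MinInv ρ N → finrank K N ≤ D)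
    (S : Submodule K V) (hS : Inv ρ S) :
    finrank K S + D * finrank K (S.map ((ρ x - 1) ^ (p - 1))) ≤
      D * finrank K (S ⊓ LinearMap.ker (ρ x - 1) : Submodule K V) := by
  rcases subsingleton_or_nontrivial V with hV | hV
  · have h0 : ∀ T : Submodule K V, finrank K T = 0 := fun T => by
      have : Subsingleton T := ⟨fun a b => Subtype.ext (Subsingleton.elim _ _)⟩
      exact finrank_zero_of_subsingleton
    simp [h0]
  have : CharP (Module.End K V) p :=
    charP_of_injective_algebraMap (FaithfulSMul.algebraMap_injective K (Module.End K V)) p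
  have hy : (ρ x - 1) ^ p = 0 := by
    rw [sub_pow_char_of_commute (p := p) (Commute.one_right _), ← map_pow, hx, map_one, one_pow,
      sub_self]
  set y : Module.End K V := ρ x - 1 with hydef
  have hyS : ∀ T : Submodule K V, Inv ρ T → ∀ v ∈ T, y v ∈ T := fun T hT v hv =>
    T.sub_mem (hT x v hv) hv
  induction hn : finrank K S using Nat.strong_induction_on generalizing S with
  | _ n ih =>
    by_cases h0 : S = ⊥
    · subst h0
      rw [finrank_bot] at hn
      rw [← hn, Submodule.map_bot, finrank_bot]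
      simp
    obtain ⟨N, hNS, hN⟩ := exists_minInv ρ S hS h0
    obtain ⟨S', hS', hS'S, hinf, hsup⟩ := exists_compl ρ e he hE hN.1 hS hNS
    have hfin : finrank K S = finrank K N + finrank K S' := by
      have := Submodule.finrank_sup_add_finrank_inf_eq N S'
      rw [hinf, hsup, finrank_bot, add_zero] at this
      exact this
    have hNpos : 0 < finrank K N := by
      rw [Module.finrank_pos_iff]
      exact Submodule.nontrivial_iff_ne_bot.2 hN.2.1
    have hih := ih (finrank K S') (by omega) S' hS' rfl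
    have ha : finrank K (N ⊓ LinearMap.ker y : Submodule K V) +
        finrank K (S' ⊓ LinearMap.ker y : Submodule K V) ≤
        finrank K (S ⊓ LinearMap.ker y : Submodule K V) := by
      have h1 := Submodule.finrank_sup_add_finrank_inf_eq (N ⊓ LinearMap.ker y)
        (S' ⊓ LinearMap.ker y)
      have h2 : (N ⊓ LinearMap.ker y) ⊓ (S' ⊓ LinearMap.ker y) = ⊥ := by
        rw [eq_bot_iff, ← hinf]
        exact inf_le_inf inf_le_left inf_le_left
      rw [h2, finrank_bot, add_zero] at h1
      rw [← h1]
      apply Submodule.finrank_mono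
      exact sup_le (inf_le_inf_right _ hNS) (inf_le_inf_right _ hS'S)
    have hb : finrank K (S.map (y ^ (p - 1))) ≤ finrank K (N.map (y ^ (p - 1))) +
        finrank K (S'.map (y ^ (p - 1))) := by
      rw [← hsup, Submodule.map_sup]
      exact Submodule.finrank_add_le_finrank_add_finrank _ _
    have hc : finrank K (N.map (y ^ (p - 1))) + 1 ≤
        finrank K (N ⊓ LinearMap.ker y : Submodule K V) := by
      by_contra hcon
      push Not at hcon
      exact not_dvd_finrank p ρ e he hE hN
        (dvd_of_le (Fact.out : p.Prime).pos hy (hyS N hN.1) (by omega))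
    have hd := hD N hN
    rw [← hn, hfin]
    calc finrank K N + finrank K S' + D * finrank K (S.map (y ^ (p - 1)))
        ≤ D + finrank K S' + D * (finrank K (N.map (y ^ (p - 1))) +
          finrank K (S'.map (y ^ (p - 1)))) := by gcongr
      _ = D * (finrank K (N.map (y ^ (p - 1))) + 1) +
          (finrank K S' + D * finrank K (S'.map (y ^ (p - 1)))) := by ring
      _ ≤ D * finrank K (N ⊓ LinearMap.ker y : Submodule K V) +
          D * finrank K (S' ⊓ LinearMap.ker y : Submodule K V) := by gcongr
      _ ≤ D * finrank K (S ⊓ LinearMap.ker y : Submodule K V) := by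
          rw [← mul_add]
          gcongr

/-- The dimension bound. -/
theorem finrank_le [IsAlgClosed K] (p : ℕ) [Fact p.Prime] [CharP K p] [Fintype H]
    (ρ : Representation K H V) (e : H → K) (he : ∑ g, e g = 1)
    (hE : ∀ (a : Module.End K V) (h : H), ρ h * avg ρ e a = avg ρ e a * ρ h)
    (x : H) (hx : x ^ p = 1) (D r : ℕ)
    (hD : ∀ N : Submodule K V, MinInv ρ N → finrank K N ≤ D)
    (φ π : Module.End K V)
    (hφ : ∑ k ∈ Finset.range p, ρ x ^ k * φ * ρ x⁻¹ ^ k + π = 1)
    (hr : finrank K (LinearMap.range π) ≤ r) : finrank K V ≤ D * r := by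
  rcases subsingleton_or_nontrivial V with hV | hV
  · rw [finrank_zero_of_subsingleton]
    exact Nat.zero_le _
  have : CharP (Module.End K V) p :=
    charP_of_injective_algebraMap (FaithfulSMul.algebraMap_injective K (Module.End K V)) p
  have h1 := finrank_add_le p ρ e he hE x hx D hD ⊤ (fun g v _ => Submodule.mem_top)
  rw [finrank_top, top_inf_eq, Submodule.map_top] at h1
  have h2 : LinearMap.ker (ρ x - 1) ≤ LinearMap.range π ⊔ LinearMap.range ((ρ x - 1) ^ (p - 1)) := by
    intro z hz
    have hz1 : ρ x z = z := by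
      have : ρ x z - z = 0 := hz
      exact sub_eq_zero.1 this
    have hz2 : ρ x⁻¹ z = z := by
      conv_lhs => rw [← hz1]
      rw [← Module.End.mul_apply, ← map_mul, inv_mul_cancel, map_one, Module.End.one_apply]
    have hz3 : ∀ k : ℕ, (ρ x⁻¹ ^ k) z = z := by
      intro k
      induction k with
      | zero => simp
      | succ k ih => rw [pow_succ, Module.End.mul_apply, hz2, ih]
    have h3 : z = π z + ((ρ x - 1) ^ (p - 1)) (φ z) := by
      conv_lhs => rw [← Module.End.one_apply (R := K) z, ← hφ]
      rw [LinearMap.add_apply, LinearMap.sum_apply, ← geom_sum_eq (p := p) (ρ x),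
        LinearMap.sum_apply, add_comm]
      congr 1
      refine Finset.sum_congr rfl fun k _ => ?_
      rw [Module.End.mul_apply, Module.End.mul_apply, hz3 k]
    rw [h3]
    exact Submodule.add_mem_sup ⟨z, rfl⟩ ⟨φ z, rfl⟩
  have h3 := (Submodule.finrank_mono h2).trans (Submodule.finrank_add_le_finrank_add_finrank _ _)
  have h4 : D * finrank K (LinearMap.ker (ρ x - 1)) ≤
      D * r + D * finrank K (LinearMap.range ((ρ x - 1) ^ (p - 1))) := by
    rw [← mul_add]
    exact Nat.mul_le_mul_left D (h3.trans (Nat.add_le_add_right hr _))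
  omega

end main

end Cfsg.Agent.H662.KeyAbs
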