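import Mathlib
import Cfsg.Agent.H662.TwoStep

/-!
# Jordan's theorem on finite complex linear groups

`jordan n` : there is `c` such that every finite group with a faithful complex representation of
dimension `n` has an abelian subgroup of index at most `c`.
-/

set_option autoImplicit false
open Module

namespace Cfsg.Agent.H662.Jordan

section isometry

variable {E : Type*} [NormedAddCommGroup E] [InnerProductSpace ℂ E]

/-- `a` moves each vector by at most `c` times its norm. -/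
def Near (c : ℝ) (a : E ≃ₗᵢ[ℂ] E) : Prop := ∀ v, ‖a v - v‖ ≤ c * ‖v‖

theorem near_mono {c c' : ℝ} (h : c ≤ c') {a : E ≃ₗᵢ[ℂ] E} (ha : Near c a) : Near c' a :=
  fun v => (ha v).trans (mul_le_mul_of_nonneg_right h (norm_nonneg v))

theorem near_commutator {ca cb : ℝ} (hca : 0 ≤ ca) (hcb : 0 ≤ cb) {a b : E ≃ₗᵢ[ℂ] E}
    (ha : Near ca a) (hb : Near cb b) : Near (2 * ca * cb) (a * b * a⁻¹ * b⁻¹) := by
  intro v
  set w := a⁻¹ (b⁻¹ v) with hw
  have hbv : b (b⁻¹ v) = v := by
    have : (b * b⁻¹) v = v := by rw [mul_inv_cancel]; rfl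
    exact this
  have hav : a w = b⁻¹ v := by
    have : (a * a⁻¹) (b⁻¹ v) = b⁻¹ v := by rw [mul_inv_cancel]; rfl
    exact this
  have hv : v = b (a w) := by rw [hav, hbv]
  have h1 : (a * b * a⁻¹ * b⁻¹) v = a (b w) := rfl
  have hn : ‖v‖ = ‖w‖ := by rw [hv, b.norm_map, a.norm_map]
  rw [h1, hn]
  have h2 : a (b w) - v = (a (b w - w) - (b w - w)) - (b (a w - w) - (a w - w)) := by
    rw [hv, map_sub, map_sub]
    abel
  rw [h2]
  have h3 := ha (b w - w)
  have h4 := hb (a w - w)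
  have h5 := ha w
  have h6 := hb w
  calc ‖(a (b w - w) - (b w - w)) - (b (a w - w) - (a w - w))‖
      ≤ ‖a (b w - w) - (b w - w)‖ + ‖b (a w - w) - (a w - w)‖ := norm_sub_le _ _
    _ ≤ ca * ‖b w - w‖ + cb * ‖a w - w‖ := add_le_add h3 h4
    _ ≤ ca * (cb * ‖w‖) + cb * (ca * ‖w‖) := by gcongr
    _ = 2 * ca * cb * ‖w‖ := by ring

/-- A common eigenvector with different eigenvalues. -/
theorem exists_eigenvector [FiniteDimensional ℂ E] {a a' : E ≃ₗᵢ[ℂ] E} (h : a * a' = a' * a)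
    (hne : a ≠ a') : ∃ (v : E) (l m : ℂ), v ≠ 0 ∧ l ≠ m ∧ a v = l • v ∧ a' v = m • v := by
  set δ : E ≃ₗᵢ[ℂ] E := a⁻¹ * a' with hδ
  have hδ1 : δ ≠ 1 := by
    intro h1
    apply hne
    rw [hδ, inv_mul_eq_one] at h1
    exact h1
  have hδa : δ * a = a * δ := by
    rw [hδ, mul_assoc, ← h, ← mul_assoc, ← mul_assoc, inv_mul_cancel, mul_inv_cancel]
  have hcomm : ∀ v, δ (a v) = a (δ v) := fun v => congrArg (fun t : E ≃ₗᵢ[ℂ] E => t v) hδa
  set D : E →ₗ[ℂ] E := δ.toLinearEquiv.toLinearMap with hD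
  have hDδ : ∀ v, D v = δ v := fun v => rfl
  set F : Submodule ℂ E := LinearMap.ker (D - 1) with hF
  have hFm : ∀ v, v ∈ F ↔ δ v = v := by
    intro v
    rw [hF, LinearMap.mem_ker, LinearMap.sub_apply, sub_eq_zero]
    rfl
  have hFtop : F ≠ ⊤ := by
    intro h1
    apply hδ1
    ext v
    have : v ∈ F := by rw [h1]; exact Submodule.mem_top
    exact (hFm v).1 this
  have hS : Fᗮ ≠ ⊥ := fun h1 => hFtop ((Submodule.orthogonal_eq_bot_iff).1 h1)
  have hSinv : ∀ s ∈ Fᗮ, D s ∈ Fᗮ := by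
    intro s hs
    rw [Submodule.mem_orthogonal] at hs ⊢
    intro k hk
    have h2 : inner ℂ (δ k) (δ s) = inner ℂ k s := δ.inner_map_map k s
    rw [(hFm k).1 hk] at h2
    rw [hDδ, h2]
    exact hs k hk
  have hnt : Nontrivial Fᗮ := Submodule.nontrivial_iff_ne_bot.2 hS
  obtain ⟨z, hz⟩ := Module.End.exists_eigenvalue (D.restrict hSinv)
  obtain ⟨s, hs⟩ := hz.exists_hasEigenvector
  have hs1 : δ (s : E) = z • (s : E) := congrArg Subtype.val hs.apply_eq_smul
  have hs0 : (s : E) ≠ 0 := fun h0 => hs.2 (Subtype.ext h0)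
  have hz1 : z ≠ 1 := by
    intro h1
    rw [h1, one_smul] at hs1
    have h2 : (s : E) ∈ F := (hFm _).2 hs1
    have h3 := (Submodule.mem_orthogonal F (s : E)).1 s.2 _ h2
    exact hs0 (inner_self_eq_zero.1 h3)
  set Ez : Submodule ℂ E := LinearMap.ker (D - z • 1) with hEz
  have hEm : ∀ v, v ∈ Ez ↔ δ v = z • v := by
    intro v
    rw [hEz, LinearMap.mem_ker, LinearMap.sub_apply, sub_eq_zero]
    rfl
  set A : E →ₗ[ℂ] E := a.toLinearEquiv.toLinearMap with hA
  have hAinv : ∀ v ∈ Ez, A v ∈ Ez := by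
    intro v hv
    rw [hEm] at hv ⊢
    show δ (a v) = z • a v
    rw [hcomm, hv, map_smul]
  have hEnt : Nontrivial Ez :=
    Submodule.nontrivial_iff_ne_bot.2 ((Submodule.ne_bot_iff _).2 ⟨s, (hEm _).2 hs1, hs0⟩)
  obtain ⟨l, hl⟩ := Module.End.exists_eigenvalue (A.restrict hAinv)
  obtain ⟨v, hv⟩ := hl.exists_hasEigenvector
  have hv1 : a (v : E) = l • (v : E) := congrArg Subtype.val hv.apply_eq_smul
  have hv0 : (v : E) ≠ 0 := fun h0 => hv.2 (Subtype.ext h0)
  have hv2 : δ (v : E) = z • (v : E) := (hEm _).1 v.2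
  have hl0 : l ≠ 0 := by
    intro h0
    rw [h0, zero_smul] at hv1
    exact hv0 (a.injective (hv1.trans (map_zero a).symm))
  refine ⟨v, l, z * l, hv0, ?_, hv1, ?_⟩
  · intro h1
    apply hz1
    exact mul_right_cancel₀ hl0 (by rw [one_mul]; exact h1.symm)
  · have h1 : a' = a * δ := by rw [hδ, ← mul_assoc, mul_inv_cancel, one_mul]
    rw [h1]
    show a (δ v) = _
    rw [hv2, map_smul, hv1, smul_smul]

theorem commute_of_near [FiniteDimensional ℂ E] {a b : E ≃ₗᵢ[ℂ] E} {c : ℝ} (hc : c ^ 2 < 2)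
    (hb : Near c b) (h : a * (b * a * b⁻¹) = (b * a * b⁻¹) * a) : a * b = b * a := by
  by_contra hne
  have hne' : a ≠ b * a * b⁻¹ := by
    intro h1
    apply hne
    calc a * b = (b * a * b⁻¹) * b := by rw [← h1]
      _ = b * a := by rw [inv_mul_cancel_right]
  obtain ⟨v, l, m, hv, hlm, h1, h2⟩ := exists_eigenvector h hne'
  set w := b⁻¹ v with hw
  have hbw : b w = v := by
    have : (b * b⁻¹) v = v := by rw [mul_inv_cancel]; rfl
    exact this
  have haw : a w = m • w := by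
    have h3 : b (a w) = m • v := h2
    have h4 : b (a w) = b (m • w) := by rw [h3, map_smul, hbw]
    exact b.injective h4
  have hw0 : w ≠ 0 := by
    intro h0
    rw [h0, map_zero] at hbw
    exact hv hbw.symm
  have hl1 : ‖l‖ = 1 := by
    have h3 := a.norm_map v
    rw [h1, norm_smul] at h3
    have h4 : ‖v‖ ≠ 0 := norm_ne_zero_iff.2 hv
    exact (mul_eq_right₀ h4).1 h3
  have hin : inner ℂ v w = 0 := by
    have h3 := a.inner_map_map v w
    rw [h1, haw, inner_smul_left, inner_smul_right] at h3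
    by_contra h0
    have h4 : (starRingEnd ℂ) l * m = 1 := by
      apply mul_right_cancel₀ h0
      rw [one_mul, mul_assoc, h3]
    apply hlm
    have h5 : l * (starRingEnd ℂ) l = 1 := by
      rw [Complex.mul_conj, Complex.normSq_eq_norm_sq, hl1]
      simp
    calc l = l * ((starRingEnd ℂ) l * m) := by rw [h4, mul_one]
      _ = m := by rw [← mul_assoc, h5, one_mul]
  have h3 := hb w
  rw [hbw] at h3
  have h4 : ‖v - w‖ ^ 2 = ‖v‖ ^ 2 + ‖w‖ ^ 2 := by
    rw [@norm_sub_sq ℂ, hin]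
    simp
  have h5 : ‖v‖ = ‖w‖ := by rw [← hbw, b.norm_map]
  have h6 : 0 < ‖w‖ := norm_pos_iff.2 hw0
  rw [h5] at h4
  have h7 : ‖v - w‖ ^ 2 ≤ (c * ‖w‖) ^ 2 := pow_le_pow_left₀ (norm_nonneg _) h3 2
  rw [h4, mul_pow] at h7
  have h8 : 0 < ‖w‖ ^ 2 := by positivity
  nlinarith

end isometry

section group

variable {E : Type*} [NormedAddCommGroup E] [InnerProductSpace ℂ E] [FiniteDimensional ℂ E]
  {G : Type*} [Group G] [Finite G]

/-- Elements close to the identity commute. -/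
theorem commute_of_near_near (ρ : G →* (E ≃ₗᵢ[ℂ] E)) (hρ : Function.Injective ρ) {a b : G}
    (ha : Near (1 / 4) (ρ a)) (hb : Near (1 / 4) (ρ b)) : a * b = b * a := by
  classical
  let c : ℕ → G := fun k => Nat.rec b (fun _ x => a * x * a⁻¹ * x⁻¹) k
  have hc0 : c 0 = b := rfl
  have hcs : ∀ k, c (k + 1) = a * c k * a⁻¹ * (c k)⁻¹ := fun k => rfl
  have hnear : ∀ k, Near ((1 / 4) * (1 / 2) ^ k) (ρ (c k)) := by
    intro k
    induction k with
    | zero => simpa [hc0] using hb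
    | succ k ih =>
      rw [hcs, map_mul, map_mul, map_mul, map_inv, map_inv]
      have h1 := near_commutator (by norm_num) (by positivity) ha ih
      refine near_mono (le_of_eq ?_) h1
      rw [pow_succ]
      ring
  -- nontrivial elements are not arbitrarily near to one
  have hfar : ∀ g : G, g ≠ 1 → ∃ k : ℕ, ¬ Near ((1 / 4) * (1 / 2) ^ k) (ρ g) := by
    intro g hg
    by_contra hcon
    push Not at hcon
    apply hg
    apply hρ
    rw [map_one]
    ext v
    have h1 : ‖ρ g v - v‖ ≤ 0 := by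
      have h2 : Filter.Tendsto (fun k : ℕ => ((1 : ℝ) / 4) * (1 / 2) ^ k * ‖v‖) Filter.atTop
          (nhds ((1 / 4) * 0 * ‖v‖)) :=
        ((tendsto_pow_atTop_nhds_zero_of_lt_one (by norm_num) (by norm_num)).const_mul _).mul_const _
      rw [mul_zero, zero_mul] at h2
      exact ge_of_tendsto' h2 fun k => hcon k v
    have h2 : ρ g v - v = 0 := norm_le_zero_iff.1 h1
    exact sub_eq_zero.1 h2
  choose! kf hkf using hfar
  obtain ⟨g₀, hg₀⟩ := Finite.exists_max kf
  have hK : c (kf g₀) = 1 := by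
    by_contra hne
    apply hkf _ hne
    refine near_mono ?_ (hnear (kf g₀))
    gcongr 1 / 4 * ?_
    exact pow_le_pow_of_le_one (by norm_num) (by norm_num) (hg₀ _)
  have hdesc : ∀ k, a * c (k + 1) = c (k + 1) * a → a * c k = c k * a := by
    intro k hk
    apply hρ
    rw [map_mul, map_mul]
    have h1 : (1 / 4 * (1 / 2) ^ k : ℝ) ≤ 1 := by
      have : ((1 : ℝ) / 2) ^ k ≤ 1 := pow_le_one₀ (by norm_num) (by norm_num)
      linarith
    refine commute_of_near (c := 1) (by norm_num) (near_mono h1 (hnear k)) ?_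
    rw [← map_inv, ← map_mul, ← map_mul, ← map_mul, ← map_mul]
    congr 1
    have h2 : Commute a (a * c k * a⁻¹ * (c k)⁻¹) := by rw [← hcs]; exact hk
    have h3 : Commute a (c k * a⁻¹ * (c k)⁻¹) := by
      have h4 : c k * a⁻¹ * (c k)⁻¹ = a⁻¹ * (a * c k * a⁻¹ * (c k)⁻¹) := by group
      rw [h4]
      exact ((Commute.refl a).inv_right).mul_right h2
    have h4 : Commute a (c k * a⁻¹ * (c k)⁻¹)⁻¹ := h3.inv_right
    have h5 : (c k * a⁻¹ * (c k)⁻¹)⁻¹ = c k * a * (c k)⁻¹ := by group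
    rw [h5] at h4
    exact h4
  have hall : ∀ k, k ≤ kf g₀ → a * c (kf g₀ - k) = c (kf g₀ - k) * a := by
    intro k
    induction k with
    | zero =>
      intro _
      rw [Nat.sub_zero, hK, mul_one, one_mul]
    | succ k ih =>
      intro hk
      apply hdesc
      have h1 : kf g₀ - (k + 1) + 1 = kf g₀ - k := by omega
      rw [h1]
      exact ih (by omega)
  have h1 := hall (kf g₀) le_rfl
  rw [Nat.sub_self, hc0] at h1
  exact h1

/-- The covering argument. -/
theorem exists_cover (E : Type*) [NormedAddCommGroup E] [InnerProductSpace ℂ E]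
    [FiniteDimensional ℂ E] : ∃ N : ℕ, ∀ (G : Type*) [Group G] [Finite G]
      (ρ : G →* (E ≃ₗᵢ[ℂ] E)) (A : Subgroup G), (∀ g, Near (1 / 4) (ρ g) → g ∈ A) →
      A.index ≤ N := by
  have hfd : FiniteDimensional ℂ (E →L[ℂ] E) := inferInstance
  have hproper : ProperSpace (E →L[ℂ] E) := FiniteDimensional.proper ℂ _
  obtain ⟨t, -, ht, hcov⟩ := (isCompact_closedBall (0 : E →L[ℂ] E) 1).finite_cover_balls
    (e := 1 / 8) (by norm_num)
  refine ⟨Nat.card t, fun G _ _ ρ A hA => ?_⟩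
  have htf : Finite t := ht
  let L : G → (E →L[ℂ] E) := fun g => ((ρ g).toContinuousLinearEquiv : E →L[ℂ] E)
  have hL : ∀ g v, L g v = ρ g v := fun g v => rfl
  have hL1 : ∀ g, L g ∈ Metric.closedBall (0 : E →L[ℂ] E) 1 := by
    intro g
    rw [mem_closedBall_zero_iff]
    refine ContinuousLinearMap.opNorm_le_bound _ zero_le_one fun v => ?_
    rw [hL, (ρ g).norm_map, one_mul]
  have hex : ∀ g, ∃ x : t, L g ∈ Metric.ball (x : E →L[ℂ] E) (1 / 8) := by
    intro g
    obtain ⟨x, hx, hx'⟩ := Set.mem_iUnion₂.1 (hcov (hL1 g))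
    exact ⟨⟨x, hx⟩, hx'⟩
  choose f hf using hex
  refine Cfsg.Agent.H662.KeyAbs.index_le_of_map A f fun g g' hgg => hA _ ?_
  intro v
  have h1 : ‖L g' - L g‖ ≤ 1 / 4 := by
    have h2 := hf g
    have h3 := hf g'
    rw [← hgg] at h3
    rw [Metric.mem_ball, dist_eq_norm] at h2 h3
    calc ‖L g' - L g‖ = ‖(L g' - f g) - (L g - f g)‖ := by congr 1; abel
      _ ≤ ‖L g' - f g‖ + ‖L g - f g‖ := norm_sub_le _ _
      _ ≤ 1 / 4 := by linarith
  have h2 : ‖(L g' - L g) v‖ ≤ 1 / 4 * ‖v‖ :=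
    (ContinuousLinearMap.le_opNorm _ _).trans (mul_le_mul_of_nonneg_right h1 (norm_nonneg _))
  have h3 : ρ (g⁻¹ * g') v - v = (ρ g)⁻¹ (ρ g' v - ρ g v) := by
    rw [map_mul, map_inv, map_sub]
    have : ((ρ g)⁻¹ * ρ g) v = v := by rw [inv_mul_cancel]; rfl
    have h4 : (ρ g)⁻¹ (ρ g v) = v := this
    rw [h4]
    rfl
  rw [h3, ((ρ g)⁻¹).norm_map]
  exact h2

end group

/-- The invariant inner product. -/
@[instance_reducible]
noncomputable def core {V : Type*} [AddCommGroup V] [Module ℂ V] [FiniteDimensional ℂ V]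
    {G : Type*} [Group G] [Fintype G] (ρ : Representation ℂ G V) : InnerProductSpace.Core ℂ V :=
  let b : V ≃ₗ[ℂ] EuclideanSpace ℂ (Fin (finrank ℂ V)) :=
    (finBasis ℂ V).equivFun.trans (WithLp.linearEquiv 2 ℂ _).symm
  { inner := fun v w => ∑ g : G, inner ℂ (b (ρ g v)) (b (ρ g w))
    conj_inner_symm := fun v w => by
      rw [map_sum]
      exact Finset.sum_congr rfl fun g _ => inner_conj_symm _ _
    re_inner_nonneg := fun v => by
      rw [map_sum]
      exact Finset.sum_nonneg fun g _ => inner_self_nonneg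
    add_left := fun u v w => by
      rw [← Finset.sum_add_distrib]
      refine Finset.sum_congr rfl fun g _ => ?_
      rw [map_add, map_add, inner_add_left]
    smul_left := fun u v c => by
      rw [Finset.mul_sum]
      refine Finset.sum_congr rfl fun g _ => ?_
      rw [map_smul, map_smul, inner_smul_left]
    definite := fun v hv => by
      have h1 : ∑ g : G, RCLike.re (inner ℂ (b (ρ g v)) (b (ρ g v))) = 0 := by
        rw [← map_sum, hv]
        simp
      have h2 := (Finset.sum_eq_zero_iff_of_nonneg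
        (fun g _ => inner_self_nonneg (𝕜 := ℂ) (x := b (ρ g v)))).1 h1 1 (Finset.mem_univ _)
      have h3 : b (ρ 1 v) = 0 := (re_inner_self_nonpos (𝕜 := ℂ)).1 (le_of_eq h2)
      rw [map_one] at h3
      exact b.map_eq_zero_iff.1 h3 }

/-- The representation by isometries for the invariant inner product. -/
theorem exists_isometry {V : Type*} [AddCommGroup V] [Module ℂ V] [FiniteDimensional ℂ V]
    {G : Type*} [Group G] [Finite G] (ρ : Representation ℂ G V) (hρ : Function.Injective ρ) :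
    ∃ ρ' : G →* (EuclideanSpace ℂ (Fin (finrank ℂ V)) ≃ₗᵢ[ℂ]
      EuclideanSpace ℂ (Fin (finrank ℂ V))), Function.Injective ρ' := by
  have := Fintype.ofFinite G
  letI : NormedAddCommGroup V := (core ρ).toNormedAddCommGroup
  letI : InnerProductSpace ℂ V := InnerProductSpace.ofCore (core ρ).toCore
  let b : V ≃ₗ[ℂ] EuclideanSpace ℂ (Fin (finrank ℂ V)) :=
    (finBasis ℂ V).equivFun.trans (WithLp.linearEquiv 2 ℂ _).symm
  have hin : ∀ v w : V, inner ℂ v w = ∑ g : G, inner ℂ (b (ρ g v)) (b (ρ g w)) := fun v w => rfl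
  have hinv : ∀ (g : G) (v w : V), inner ℂ (ρ g v) (ρ g w) = inner ℂ v w := by
    intro g v w
    rw [hin, hin]
    refine Fintype.sum_equiv (Equiv.mulRight g) _ _ fun h => ?_
    rw [Equiv.coe_mulRight, map_mul, Module.End.mul_apply, Module.End.mul_apply]
  have hcomp : ∀ (g : G), (ρ g) ∘ₗ (ρ g⁻¹) = LinearMap.id := by
    intro g
    rw [← Module.End.mul_eq_comp, ← map_mul, mul_inv_cancel, map_one]
    rfl
  have hcomp' : ∀ (g : G), (ρ g⁻¹) ∘ₗ (ρ g) = LinearMap.id := by
    intro g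
    rw [← Module.End.mul_eq_comp, ← map_mul, inv_mul_cancel, map_one]
    rfl
  let U : G → (V ≃ₗᵢ[ℂ] V) := fun g =>
    (LinearEquiv.ofLinear (ρ g) (ρ g⁻¹) (hcomp g) (hcomp' g)).isometryOfInner (hinv g)
  have hU : ∀ g v, U g v = ρ g v := fun g v => rfl
  let e : V ≃ₗᵢ[ℂ] EuclideanSpace ℂ (Fin (finrank ℂ V)) := (stdOrthonormalBasis ℂ V).repr
  refine ⟨{ toFun := fun g => (e.symm.trans (U g)).trans e
            map_one' := ?_
            map_mul' := ?_ }, ?_⟩
  · ext1 x
    show e (U 1 (e.symm x)) = x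
    rw [hU, map_one, Module.End.one_apply, e.apply_symm_apply]
  · intro g h
    ext1 x
    show e (U (g * h) (e.symm x)) = e (U g (e.symm (e (U h (e.symm x)))))
    rw [e.symm_apply_apply, hU, hU, hU, map_mul, Module.End.mul_apply]
  · intro g h hgh
    apply hρ
    ext v
    have h1 : e (U g (e.symm (e v))) = e (U h (e.symm (e v))) :=
      congrArg (fun T : (EuclideanSpace ℂ (Fin (finrank ℂ V)) ≃ₗᵢ[ℂ] _) => T (e v)) hgh
    rw [e.symm_apply_apply, hU, hU] at h1
    exact e.injective h1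

/-- **Jordan's theorem**: a bound for the index of an abelian subgroup. -/
theorem jordan (d : ℕ) : ∃ N : ℕ, ∀ (G : Type*) [Group G] [Finite G] (V : Type*) [AddCommGroup V]
    [Module ℂ V] [FiniteDimensional ℂ V] (ρ : Representation ℂ G V), Function.Injective ρ →
    finrank ℂ V = d → ∃ A : Subgroup G, (∀ a ∈ A, ∀ b ∈ A, a * b = b * a) ∧ A.index ≤ N := by
  obtain ⟨N, hN⟩ := exists_cover (EuclideanSpace ℂ (Fin d))
  refine ⟨N, fun G _ _ V _ _ _ ρ hρ hd => ?_⟩
  obtain ⟨ρ', hρ'⟩ := exists_isometry ρ hρ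
  subst hd
  refine ⟨Subgroup.closure {g | Near (1 / 4) (ρ' g)}, fun a ha b hb => ?_, ?_⟩
  · have h1 := Subgroup.isMulCommutative_closure (k := {g | Near (1 / 4) (ρ' g)})
      fun x hx y hy => commute_of_near_near ρ' hρ' hx hy
    have h2 := mul_comm' (⟨a, ha⟩ : Subgroup.closure {g | Near (1 / 4) (ρ' g)}) ⟨b, hb⟩
    exact congrArg Subtype.val h2
  · exact hN G ρ' _ fun g hg => Subgroup.subset_closure hg

end Cfsg.Agent.H662.Jordan
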