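import Mathlib
import Cfsg.Agent.H662.TwoStep

/-!
# Abelian subgroups of bounded index: reductions

* `Bd K p m n c` : every finite group with `|G|_p ≤ p ^ m` and a faithful representation of
  dimension at most `n` has an abelian subgroup of index at most `c`;
* `of_invariant` : the case of a proper invariant subspace;
* `of_nonscalar` : the case of an abelian normal subgroup not acting by scalars.
-/

set_option autoImplicit false
open Module
open scoped commutatorElement

namespace Cfsg.Agent.H662.BF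

open Cfsg.Agent.H662.KeyAbs

universe u

/-- Abelian subgroups of bounded index. -/
def Bd (K : Type) [Field K] (p m n c : ℕ) : Prop :=
  ∀ (G : Type u) [Group G] [Finite G] (V : Type) [AddCommGroup V] [Module K V]
    [FiniteDimensional K V] (ρ : Representation K G V), Function.Injective ρ →
    finrank K V ≤ n → (Nat.card G).factorization p ≤ m →
    ∃ A : Subgroup G, (∀ a ∈ A, ∀ b ∈ A, a * b = b * a) ∧ A.index ≤ c

theorem factorization_le_of_dvd {a b : ℕ} (hb : b ≠ 0) (h : a ∣ b) (p : ℕ) :
    a.factorization p ≤ b.factorization p := by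
  have ha : a ≠ 0 := fun h0 => hb (by rw [h0] at h; exact Nat.eq_zero_of_zero_dvd h)
  exact (Nat.factorization_le_iff_dvd ha hb).2 h p

variable {K : Type} [Field K] {p m n c : ℕ}

/-- The bound for representations that need not be faithful. -/
theorem Bd.ker (h : Bd.{u} K p m n c) {G : Type u} [Group G] [Finite G] {V : Type}
    [AddCommGroup V] [Module K V] [FiniteDimensional K V] (ρ : Representation K G V)
    (hn : finrank K V ≤ n) (hm : (Nat.card G).factorization p ≤ m) :
    ∃ A : Subgroup G, (∀ a ∈ A, ∀ b ∈ A, ρ (a * b) = ρ (b * a)) ∧ A.index ≤ c := by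
  set N := MonoidHom.ker ρ with hN
  let ρ' : Representation K (G ⧸ N) V := QuotientGroup.lift N ρ le_rfl
  have hρ' : ∀ g : G, ρ' (QuotientGroup.mk g) = ρ g := fun g => rfl
  have hinj : Function.Injective ρ' := by
    rw [injective_iff_map_eq_one]
    intro x
    induction x using QuotientGroup.induction_on with
    | H g =>
      intro hg
      rw [hρ'] at hg
      rw [QuotientGroup.eq_one_iff]
      exact hg
  have hcard : Nat.card (G ⧸ N) ∣ Nat.card G := Subgroup.card_quotient_dvd_card N
  obtain ⟨A, hA, hAc⟩ := h (G ⧸ N) V ρ' hinj hn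
    ((factorization_le_of_dvd Nat.card_pos.ne' hcard p).trans hm)
  refine ⟨A.comap (QuotientGroup.mk' N), fun a ha b hb => ?_, ?_⟩
  · rw [← hρ', ← hρ', QuotientGroup.mk_mul, QuotientGroup.mk_mul]
    congr 1
    exact hA _ ha _ hb
  · rw [Subgroup.index_comap_of_surjective _ (QuotientGroup.mk'_surjective N)]
    exact hAc

/-- A group with a normal `p`-subgroup and abelian quotient. -/
theorem exists_complement {G : Type*} [Group G] [Finite G] [hp : Fact p.Prime] (A U : Subgroup G)
    (hU : ∀ u ∈ U, u ^ p = 1) (hAU : ∀ a ∈ A, ∀ b ∈ A, a * b * (b * a)⁻¹ ∈ U) :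
    ∃ C : Subgroup G, (∀ a ∈ C, ∀ b ∈ C, a * b = b * a) ∧
      C.index ≤ p ^ (Nat.card G).factorization p * A.index := by
  have hcomm : commutator A ≤ U.subgroupOf A := by
    rw [commutator_def, Subgroup.commutator_le]
    intro a _ b _
    rw [Subgroup.mem_subgroupOf]
    have h1 := hAU a a.2 b b.2
    have h2 : ((⁅a, b⁆ : A) : G) = (a : G) * b * ((b : G) * a)⁻¹ := by
      rw [commutatorElement_def]
      push_cast
      group
    rw [h2]
    exact h1
  have hpg : IsPGroup p (U.subgroupOf A) := by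
    intro x
    refine ⟨1, ?_⟩
    rw [pow_one]
    apply Subtype.ext
    apply Subtype.ext
    have := hU _ x.2
    simpa using this
  obtain ⟨Q, hQ⟩ := hpg.exists_le_sylow
  have hQn : (Q : Subgroup A).Normal := Subgroup.Normal.of_commutator_le A (hcomm.trans hQ)
  obtain ⟨C, hC⟩ := Subgroup.exists_right_complement'_of_coprime (N := (Q : Subgroup A))
    Q.card_coprime_index
  refine ⟨C.map A.subtype, ?_, ?_⟩
  · rintro _ ⟨a, ha, rfl⟩ _ ⟨b, hb, rfl⟩
    have h1 : ⁅a, b⁆ ∈ (Q : Subgroup A) := hQ (hcomm (Subgroup.commutator_mem_commutator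
      (Subgroup.mem_top a) (Subgroup.mem_top b)))
    have h2 : ⁅a, b⁆ ∈ C := by
      rw [commutatorElement_def]
      exact C.mul_mem (C.mul_mem (C.mul_mem ha hb) (C.inv_mem ha)) (C.inv_mem hb)
    have h3 : ⁅a, b⁆ = 1 := by
      have := hC.disjoint.le_bot (Subgroup.mem_inf.2 ⟨h1, h2⟩)
      exact Subgroup.mem_bot.1 this
    rw [commutatorElement_eq_one_iff_mul_comm] at h3
    exact congrArg Subtype.val h3
  · rw [Subgroup.index_map_subtype, hC.index_eq_card, Q.card_eq_multiplicity]
    apply Nat.mul_le_mul_right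
    exact Nat.pow_le_pow_right hp.out.pos
      (factorization_le_of_dvd Nat.card_pos.ne' (Subgroup.card_subgroup_dvd_card A) p)

/-- A proper invariant subspace. -/
theorem of_invariant [hp : Fact p.Prime] [CharP K p] (h : Bd.{u} K p m n c) {G : Type u} [Group G]
    [Finite G] {V : Type} [AddCommGroup V] [Module K V] [FiniteDimensional K V]
    (ρ : Representation K G V) (hρ : Function.Injective ρ) (hn : finrank K V ≤ n + 1)
    (hm : (Nat.card G).factorization p ≤ m) (N : Submodule K V) (hN : Inv ρ N) (hN0 : N ≠ ⊥)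
    (hN1 : N ≠ ⊤) : ∃ A : Subgroup G, (∀ a ∈ A, ∀ b ∈ A, a * b = b * a) ∧
      A.index ≤ p ^ m * (c * c) := by
  have hf1 : 0 < finrank K N := by
    rw [Module.finrank_pos_iff]
    exact Submodule.nontrivial_iff_ne_bot.2 hN0
  have hf2 : finrank K N < finrank K V := Submodule.finrank_lt hN1
  have hf3 := Submodule.finrank_quotient_add_finrank N
  obtain ⟨A1, hA1, hc1⟩ := h.ker (sub ρ N hN) (by omega) hm
  obtain ⟨A2, hA2, hc2⟩ := h.ker (quot ρ N hN) (by omega) hm
  obtain ⟨C, hC, hCi⟩ := exists_complement (p := p) (A1 ⊓ A2)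
    (MonoidHom.ker (sub ρ N hN) ⊓ MonoidHom.ker (quot ρ N hN)) (by
      rintro u ⟨hu1, hu2⟩
      apply hρ
      rw [map_one]
      exact pow_eq_one ρ N hN hu1 hu2) (by
      intro a ha b hb
      refine Subgroup.mem_inf.2 ⟨?_, ?_⟩
      · rw [MonoidHom.mem_ker, map_mul, hA1 a ha.1 b hb.1, ← map_mul, mul_inv_cancel, map_one]
      · rw [MonoidHom.mem_ker, map_mul, hA2 a ha.2 b hb.2, ← map_mul, mul_inv_cancel, map_one])
  refine ⟨C, hC, hCi.trans (Nat.mul_le_mul (Nat.pow_le_pow_right hp.out.pos hm) ?_)⟩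
  exact Subgroup.index_inf_le.trans (Nat.mul_le_mul hc1 hc2)

/-- The stabilizer of a weight space of an abelian normal subgroup. -/
theorem exists_stabilizer [IsAlgClosed K] {G : Type u} [Group G] [Finite G] {V : Type*}
    [AddCommGroup V] [Module K V] [FiniteDimensional K V] (ρ : Representation K G V)
    (A : Subgroup G) [hAn : A.Normal] (hA : ∀ a ∈ A, ∀ b ∈ A, a * b = b * a)
    (hns : ∃ a ∈ A, ∀ c : K, ρ a ≠ c • 1) :
    ∃ G' : Subgroup G, G'.index ≤ finrank K V ∧
      ∃ N : Submodule K V, N ≠ ⊥ ∧ N ≠ ⊤ ∧ ∀ g ∈ G', ∀ v ∈ N, ρ g v ∈ N := by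
  classical
  have hnt : Nontrivial V := by
    by_contra hn
    rw [not_nontrivial_iff_subsingleton] at hn
    obtain ⟨a, -, ha⟩ := hns
    exact ha 1 (Subsingleton.elim _ _)
  -- a common eigenvector
  obtain ⟨N₀, -, hN₀⟩ := exists_minInv (ρ.comp A.subtype : Representation K A V) ⊤
    (fun g v _ => Submodule.mem_top) top_ne_bot
  have hsc : ∀ a : A, ∃ c : K, ∀ v ∈ N₀, ρ a v = c • v := by
    intro a
    refine exists_scalar (ρ.comp A.subtype : Representation K A V) hN₀ (ρ a) (fun b => ?_)
      (fun v hv => hN₀.1 a v hv)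
    show ρ b * ρ a = ρ a * ρ b
    rw [← map_mul, ← map_mul, hA b b.2 a a.2]
  choose χ hχ using hsc
  let E : (A → K) → Submodule K V := fun ψ => ⨅ a : A, LinearMap.ker (ρ a - ψ a • 1)
  have hE : ∀ ψ v, v ∈ E ψ ↔ ∀ a : A, ρ a v = ψ a • v := by
    intro ψ v
    simp only [E, Submodule.mem_iInf, LinearMap.mem_ker, LinearMap.sub_apply, LinearMap.smul_apply,
      Module.End.one_apply, sub_eq_zero]
  have hEχ : E χ ≠ ⊥ := by
    intro h0
    apply hN₀.2.1
    rw [eq_bot_iff, ← h0]
    intro v hv
    rw [hE]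
    exact fun a => hχ a v hv
  have hEtop : E χ ≠ ⊤ := by
    intro h0
    obtain ⟨a, ha, hac⟩ := hns
    apply hac (χ ⟨a, ha⟩)
    ext v
    have h1 : v ∈ E χ := by rw [h0]; exact Submodule.mem_top
    exact (hE χ v).1 h1 ⟨a, ha⟩
  -- the action on weights
  let act : G → (A → K) → (A → K) := fun g ψ a => ψ ⟨g⁻¹ * a * g, by
    have := hAn.conj_mem a a.2 g⁻¹
    simpa using this⟩
  have hact : ∀ g h ψ, act (g * h) ψ = act g (act h ψ) := by
    intro g h ψ
    funext a
    show ψ _ = ψ _
    congr 1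
    apply Subtype.ext
    show (g * h)⁻¹ * a * (g * h) = h⁻¹ * (g⁻¹ * a * g) * h
    group
  have hact1 : ∀ ψ, act 1 ψ = ψ := by
    intro ψ
    funext a
    show ψ _ = ψ a
    congr 1
    apply Subtype.ext
    show (1 : G)⁻¹ * a * 1 = a
    group
  have hEact : ∀ g ψ v, v ∈ E ψ → ρ g v ∈ E (act g ψ) := by
    intro g ψ v hv
    rw [hE] at hv ⊢
    intro a
    have h1 := hv ⟨g⁻¹ * a * g, by
      have := hAn.conj_mem a a.2 g⁻¹
      simpa using this⟩
    have h2 : ρ a (ρ g v) = ρ g (ρ (g⁻¹ * a * g) v) := by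
      rw [← Module.End.mul_apply, ← Module.End.mul_apply, ← map_mul, ← map_mul]
      congr 2
      group
    rw [h2]
    have h3 : ρ (g⁻¹ * a * g) v = ψ ⟨g⁻¹ * a * g, by
      have := hAn.conj_mem a a.2 g⁻¹
      simpa using this⟩ • v := h1
    rw [h3, map_smul]
  -- independence
  have hind : iSupIndep E := by
    have h1 : iSupIndep fun ψ : A → K => ⨅ a : A, Module.End.maxGenEigenspace (ρ a) (ψ a) := by
      apply Module.End.independent_iInf_maxGenEigenspace_of_forall_mapsTo
      intro a b c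
      apply Module.End.mapsTo_maxGenEigenspace_of_comm
      show ρ b * ρ a = ρ a * ρ b
      rw [← map_mul, ← map_mul, hA b b.2 a a.2]
    refine h1.mono fun ψ => ?_
    refine le_iInf fun a => ?_
    intro v hv
    rw [hE] at hv
    rw [Module.End.mem_maxGenEigenspace]
    refine ⟨1, ?_⟩
    rw [pow_one, LinearMap.sub_apply, LinearMap.smul_apply, Module.End.one_apply, hv a, sub_self]
  let X : Set (A → K) := Set.range fun g => act g χ
  have hXfin : X.Finite := Set.finite_range _
  have hXfin' : Finite X := hXfin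
  have : Fintype X := Fintype.ofFinite X
  have hXcard : Nat.card X ≤ finrank K V := by
    have h1 : iSupIndep (E ∘ (Subtype.val : X → (A → K))) := hind.comp Subtype.val_injective
    have : Fintype {x : X // (E ∘ (Subtype.val : X → (A → K))) x ≠ ⊥} := Fintype.ofFinite _
    have h2 := h1.subtype_ne_bot_le_finrank
    refine le_trans ?_ h2
    rw [Nat.card_eq_fintype_card]
    apply Fintype.card_le_of_injective (fun x : X => (⟨x, ?_⟩ :
      {x : X // (E ∘ (Subtype.val : X → (A → K))) x ≠ ⊥}))
    · intro x y hxy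
      exact congrArg Subtype.val hxy
    · obtain ⟨_, g, rfl⟩ := x
      obtain ⟨v, hv, hv0⟩ := (Submodule.ne_bot_iff _).1 hEχ
      refine (Submodule.ne_bot_iff _).2 ⟨ρ g v, hEact g χ v hv, fun h0 => hv0 ?_⟩
      have h3 := congrArg (ρ g⁻¹) h0
      rw [← Module.End.mul_apply, ← map_mul, inv_mul_cancel, map_one, map_zero] at h3
      exact h3
  let G' : Subgroup G :=
    { carrier := {g | act g χ = χ}
      mul_mem' := fun {g h} hg hh => by
        show act (g * h) χ = χ
        have hg' : act g χ = χ := hg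
        have hh' : act h χ = χ := hh
        rw [hact, hh', hg']
      one_mem' := hact1 χ
      inv_mem' := fun {g} hg => by
        show act g⁻¹ χ = χ
        have hg' : act g χ = χ := hg
        conv_lhs => rw [← hg']
        rw [← hact, inv_mul_cancel, hact1] }
  refine ⟨G', ?_, E χ, hEχ, hEtop, fun g hg v hv => ?_⟩
  · refine le_trans (index_le_of_map (X := X) G' (fun g => ⟨act g χ, g, rfl⟩) ?_) hXcard
    intro g g' hgg
    have h1 : act g χ = act g' χ := congrArg Subtype.val hgg
    show act (g⁻¹ * g') χ = χ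
    rw [hact, ← h1, ← hact, inv_mul_cancel, hact1]
  · have h1 := hEact g χ v hv
    have h2 : act g χ = χ := hg
    rwa [h2] at h1

/-- An abelian normal subgroup that does not act by scalars. -/
theorem of_nonscalar [hp : Fact p.Prime] [CharP K p] [IsAlgClosed K] (h : Bd.{u} K p m n c)
    {G : Type u} [Group G] [Finite G] {V : Type} [AddCommGroup V] [Module K V]
    [FiniteDimensional K V] (ρ : Representation K G V) (hρ : Function.Injective ρ)
    (hn : finrank K V ≤ n + 1) (hm : (Nat.card G).factorization p ≤ m)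
    (A : Subgroup G) [hAn : A.Normal] (hA : ∀ a ∈ A, ∀ b ∈ A, a * b = b * a)
    (hns : ∃ a ∈ A, ∀ c : K, ρ a ≠ c • 1) :
    ∃ B : Subgroup G, (∀ a ∈ B, ∀ b ∈ B, a * b = b * a) ∧
      B.index ≤ p ^ m * (c * c) * (n + 1) := by
  obtain ⟨G', hG', N, hN0, hN1, hN⟩ := exists_stabilizer ρ A hA hns
  obtain ⟨B, hB, hBi⟩ := of_invariant h (ρ.comp G'.subtype : Representation K G' V)
    (hρ.comp G'.subtype_injective) hn
    ((factorization_le_of_dvd Nat.card_pos.ne' (Subgroup.card_subgroup_dvd_card G') p).trans hm)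
    N (fun g v hv => hN g g.2 v hv) hN0 hN1
  refine ⟨B.map G'.subtype, ?_, ?_⟩
  · rintro _ ⟨a, ha, rfl⟩ _ ⟨b, hb, rfl⟩
    exact congrArg Subtype.val (hB a ha b hb)
  · rw [Subgroup.index_map_subtype]
    exact Nat.mul_le_mul hBi (hG'.trans hn)

end Cfsg.Agent.H662.BF
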