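import Mathlib
import Cfsg.Agent.H662.BFReduce

/-!
# Abelian subgroups of bounded index: the centralizer of the subgroup generated by `p`-elements
-/

set_option autoImplicit false
open Module

namespace Cfsg.Agent.H662.BF

open Cfsg.Agent.H662.KeyAbs

universe u

section scal

variable {K : Type*} [Field K] {G : Type*} [Group G] {V : Type*} [AddCommGroup V] [Module K V]

/-- The elements acting by scalars. -/
def scal (ρ : Representation K G V) : Subgroup G where
  carrier := {g | ∃ c : K, ρ g = c • 1}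
  mul_mem' := by
    rintro g h ⟨c, hc⟩ ⟨d, hd⟩
    exact ⟨c * d, by rw [map_mul, hc, hd, smul_mul_smul_comm, one_mul]⟩
  one_mem' := ⟨1, by rw [map_one, one_smul]⟩
  inv_mem' := by
    rintro g ⟨c, hc⟩
    have h1 : ρ g⁻¹ * ρ g = 1 := by rw [← map_mul, inv_mul_cancel, map_one]
    rw [hc, mul_smul_comm, mul_one] at h1
    rcases subsingleton_or_nontrivial V with hV | hV
    · exact ⟨1, Subsingleton.elim _ _⟩
    · have hc0 : c ≠ 0 := by
        intro h0
        rw [h0, zero_smul] at h1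
        exact zero_ne_one h1
      exact ⟨c⁻¹, by rw [← h1, smul_smul, inv_mul_cancel₀ hc0, one_smul]⟩

theorem mem_scal {ρ : Representation K G V} {g : G} : g ∈ scal ρ ↔ ∃ c : K, ρ g = c • 1 := Iff.rfl

theorem scal_comm {ρ : Representation K G V} (hρ : Function.Injective ρ) {z : G} (hz : z ∈ scal ρ)
    (g : G) : z * g = g * z := by
  obtain ⟨c, hc⟩ := hz
  apply hρ
  rw [map_mul, map_mul, hc, smul_mul_assoc, one_mul, mul_smul_comm, mul_one]

theorem scal_eq_one {p : ℕ} [Fact p.Prime] [CharP K p] {ρ : Representation K G V}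
    (hρ : Function.Injective ρ) {z : G} (hz : z ∈ scal ρ) {k : ℕ} (hk : z ^ p ^ k = 1) : z = 1 := by
  obtain ⟨c, hc⟩ := hz
  apply hρ
  rw [map_one]
  rcases subsingleton_or_nontrivial V with hV | hV
  · exact Subsingleton.elim _ _
  have h1 : (c ^ p ^ k) • (1 : Module.End K V) = 1 := by
    rw [← one_pow (M := Module.End K V) (p ^ k), ← smul_pow, ← hc, ← map_pow, hk, map_one, one_pow]
  have h2 : c ^ p ^ k = 1 := by
    obtain ⟨v, hv⟩ := exists_ne (0 : V)
    have h3 := LinearMap.congr_fun h1 v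
    rw [LinearMap.smul_apply, Module.End.one_apply] at h3
    exact smul_left_injective K hv (by simpa using h3)
  have h3 : (c - 1) ^ p ^ k = 0 := by
    rw [sub_pow_char_pow (p := p), h2, one_pow, sub_self]
  have h4 : c = 1 := sub_eq_zero.1 (pow_eq_zero_iff (pow_ne_zero k (Fact.out : p.Prime).ne_zero)
    |>.1 h3)
  rw [hc, h4, one_smul]

end scal

/-- The `p`-elements. -/
def pElts (p : ℕ) (G : Type*) [Group G] : Set G := {x | ∃ k : ℕ, x ^ p ^ k = 1}

section main

variable {K : Type} [Field K] {p : ℕ} [hp : Fact p.Prime] [CharP K p] {G : Type u} [Group G]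
  [Finite G] {V : Type} [AddCommGroup V] [Module K V]

omit [Finite G] in
theorem mem_centralizer_of (ρ : Representation K G V) (hρ : Function.Injective ρ) {t : G}
    (ht : ∀ h ∈ pElts p G, h⁻¹ * (t * h * t⁻¹) ∈ scal ρ) :
    t ∈ Subgroup.centralizer ((Subgroup.closure (pElts p G) : Subgroup G) : Set G) := by
  have h1 : Subgroup.closure (pElts p G) ≤ Subgroup.centralizer ({t} : Set G) := by
    rw [Subgroup.closure_le]
    rintro h hh
    obtain ⟨k, hk⟩ := id hh
    have hz := ht h hh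
    set z := h⁻¹ * (t * h * t⁻¹) with hzdef
    have h2 : t * h * t⁻¹ = h * z := by rw [hzdef]; group
    have h3 : (t * h * t⁻¹) ^ p ^ k = 1 := by
      rw [conj_pow, hk, mul_one, mul_inv_cancel]
    rw [h2, (show Commute h z from (scal_comm hρ hz h).symm).mul_pow, hk, one_mul] at h3
    have h4 := scal_eq_one hρ hz h3
    rw [h4, mul_one] at h2
    rw [SetLike.mem_coe, Subgroup.mem_centralizer_singleton_iff]
    calc h * t = t * h * t⁻¹ * t := by rw [h2]
      _ = t * h := by group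
  rw [Subgroup.mem_centralizer_iff]
  intro h hh
  have := h1 hh
  rw [Subgroup.mem_centralizer_singleton_iff] at this
  exact this

/-- The index of the centralizer. -/
theorem index_centralizer_le (ρ : Representation K G V) (hρ : Function.Injective ρ)
    [hHn : (Subgroup.closure (pElts p G)).Normal] :
    (Subgroup.centralizer ((Subgroup.closure (pElts p G) : Subgroup G) : Set G)).index ≤
      ((scal ρ).relIndex (Subgroup.closure (pElts p G))) ^
        ((scal ρ).relIndex (Subgroup.closure (pElts p G))) := by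
  set H := Subgroup.closure (pElts p G) with hH
  set ZH := (scal ρ).subgroupOf H with hZH
  have hcard : Nat.card (H ⧸ ZH → H ⧸ ZH) = (scal ρ).relIndex H ^ (scal ρ).relIndex H := by
    rw [Nat.card_fun]
    rfl
  rw [← hcard]
  refine index_le_of_map _ (fun g (q : H ⧸ ZH) =>
    (QuotientGroup.mk (MulAut.conjNormal g (Quotient.out q)) : H ⧸ ZH)) ?_
  intro g g' hgg
  refine mem_centralizer_of (p := p) ρ hρ fun h hh => ?_
  have hhH : h ∈ H := Subgroup.subset_closure hh
  set q : H ⧸ ZH := QuotientGroup.mk (⟨h, hhH⟩ : H) with hq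
  set o : H := Quotient.out q with ho
  have h1 : (QuotientGroup.mk o : H ⧸ ZH) = QuotientGroup.mk (⟨h, hhH⟩ : H) := by
    rw [ho, QuotientGroup.out_eq', hq]
  rw [QuotientGroup.eq] at h1
  replace h1 := Subgroup.mem_subgroupOf.1 h1
  have h2 := congrFun hgg q
  rw [QuotientGroup.eq] at h2
  replace h2 := Subgroup.mem_subgroupOf.1 h2
  set z : G := ((o⁻¹ * (⟨h, hhH⟩ : H) : H) : G) with hz
  have h3 : h = (o : G) * z := by
    rw [hz]
    push_cast
    group
  have h4 : (((MulAut.conjNormal g o)⁻¹ * MulAut.conjNormal g' o : H) : G) =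
      g * ((o : G)⁻¹ * ((g⁻¹ * g') * (o : G) * (g⁻¹ * g')⁻¹)) * g⁻¹ := by
    push_cast
    rw [MulAut.conjNormal_apply, MulAut.conjNormal_apply]
    group
  have h2' : g * ((o : G)⁻¹ * ((g⁻¹ * g') * (o : G) * (g⁻¹ * g')⁻¹)) * g⁻¹ ∈ scal ρ := by
    rw [← h4]
    exact h2
  set w : G := (o : G)⁻¹ * ((g⁻¹ * g') * (o : G) * (g⁻¹ * g')⁻¹) with hw
  have h5 : w ∈ scal ρ := by
    have h6 := scal_comm hρ h2' g
    have h7 : w = g⁻¹ * ((g * w * g⁻¹) * g) := by group
    rw [h7, h6]
    rw [inv_mul_cancel_left]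
    exact h2'
  have h6 : h⁻¹ * ((g⁻¹ * g') * h * (g⁻¹ * g')⁻¹) = w := by
    rw [h3]
    have h7 : (g⁻¹ * g') * ((o : G) * z) * (g⁻¹ * g')⁻¹ =
        ((g⁻¹ * g') * (o : G) * (g⁻¹ * g')⁻¹) * z := by
      have h8 := scal_comm hρ h1 (g⁻¹ * g')⁻¹
      calc (g⁻¹ * g') * ((o : G) * z) * (g⁻¹ * g')⁻¹
          = (g⁻¹ * g') * (o : G) * (z * (g⁻¹ * g')⁻¹) := by simp only [mul_assoc]
        _ = _ := by rw [h8]; simp only [mul_assoc]
    rw [h7, mul_inv_rev]
    calc z⁻¹ * (o : G)⁻¹ * (((g⁻¹ * g') * (o : G) * (g⁻¹ * g')⁻¹) * z)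
        = z⁻¹ * (w * z) := by rw [hw]; simp only [mul_assoc]
      _ = w := by rw [scal_comm hρ h5 z, inv_mul_cancel_left]
  rw [h6]
  exact h5

instance closure_pElts_normal : (Subgroup.closure (pElts p G)).Normal := by
  refine ⟨fun n hn g => ?_⟩
  have h1 : Subgroup.closure (pElts p G) ≤
      (Subgroup.closure (pElts p G)).comap (MulAut.conj g).toMonoidHom := by
    rw [Subgroup.closure_le]
    rintro x ⟨k, hk⟩
    apply Subgroup.subset_closure
    refine ⟨k, ?_⟩
    show (g * x * g⁻¹) ^ p ^ k = 1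
    rw [conj_pow, hk, mul_one, mul_inv_cancel]
  exact h1 hn

/-- The reduction to `p'`-groups. -/
theorem of_scalar [FiniteDimensional K V] {N J r : ℕ} (h0 : Bd.{u} K p 0 N J)
    (ρ : Representation K G V) (hρ : Function.Injective ρ) (hn : finrank K V ≤ N)
    (hsc : ∀ A : Subgroup G, A.Normal → (∀ a ∈ A, ∀ b ∈ A, a * b = b * a) → A ≤ scal ρ)
    (hr : (scal ρ).relIndex (Subgroup.closure (pElts p G)) ≤ r) :
    ∃ B : Subgroup G, (∀ a ∈ B, ∀ b ∈ B, a * b = b * a) ∧ B.index ≤ J * r ^ r := by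
  set H := Subgroup.closure (pElts p G) with hH
  set C := Subgroup.centralizer (H : Set G) with hC
  have hCi : C.index ≤ r ^ r := by
    have h1 := index_centralizer_le (p := p) ρ hρ
    have hpos : 0 < (scal ρ).relIndex H := Nat.pos_of_ne_zero (by
      show ((scal ρ).subgroupOf H).index ≠ 0
      exact Subgroup.index_ne_zero_of_finite)
    refine h1.trans ((Nat.pow_le_pow_left hr _).trans (Nat.pow_le_pow_right (by omega) hr))
  have hCp : ¬ p ∣ Nat.card C := by
    intro hdvd
    obtain ⟨x, hx⟩ := exists_prime_orderOf_dvd_card' p hdvd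
    have hxp : (x : G) ^ p ^ 1 = 1 := by
      rw [pow_one, ← hx, ← Subgroup.coe_pow, pow_orderOf_eq_one, Subgroup.coe_one]
    have hxH : (x : G) ∈ H := Subgroup.subset_closure ⟨1, hxp⟩
    have hle := hsc (C ⊓ H) inferInstance (fun a ha b hb =>
      (Subgroup.mem_centralizer_iff.1 (Subgroup.mem_inf.1 ha).1 b (Subgroup.mem_inf.1 hb).2).symm)
    have h1 := scal_eq_one hρ (hle ⟨x.2, hxH⟩) hxp
    have h2 : x = 1 := Subtype.ext h1
    rw [h2, orderOf_one] at hx
    exact hp.out.one_lt.ne hx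
  obtain ⟨B, hB, hBi⟩ := h0 C V (ρ.comp C.subtype) (hρ.comp C.subtype_injective) hn
    (le_of_eq (Nat.factorization_eq_zero_of_not_dvd hCp))
  refine ⟨B.map C.subtype, ?_, ?_⟩
  · rintro _ ⟨a, ha, rfl⟩ _ ⟨b, hb, rfl⟩
    exact congrArg Subtype.val (hB a ha b hb)
  · rw [Subgroup.index_map_subtype]
    exact Nat.mul_le_mul hBi hCi

end main

end Cfsg.Agent.H662.BF
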