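import Mathlib
import Cfsg.Agent.H662.BFScalar
import Cfsg.Agent.H662.Key
import Cfsg.Agent.H662.TraceField

/-!
# Abelian subgroups of bounded index: the kernel on the principal part of the tensor power
-/

set_option autoImplicit false
open Module

namespace Cfsg.Agent.H662.BF

open Cfsg.Agent.H662.KeyAbs Cfsg.Agent.H662.PrinRep Cfsg.Agent.H662.TraceField
open Cfsg.Agent.H662.Key

universe u

/-- The bound for the image of a group on a space in the principal block. -/
def ImageBound (K : Type) [Field K] (p : ℕ) : Prop :=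
  ∀ (H : Type u) [Group H] [Finite H] (e : MonoidAlgebra K H), IsPrin (aug K H) e →
    ∀ (V : Type) [AddCommGroup V] [Module K V] [FiniteDimensional K V]
    (ρ : Representation K H V), ρ.asAlgebraHom e = 1 →
    (MonoidHom.ker ρ).index ≤
      (p ^ (Nat.card H).factorization p * p ^ (p ^ (Nat.card H).factorization p) ^ 2) ^
        (finrank K V ^ 2)

section conj

variable {K : Type*} [Field K] {H : Type*} [Group H] {U : Type*} [AddCommGroup U] [Module K U]

/-- The conjugation representation. -/
def Ad (σ : Representation K H U) : Representation K H (Module.End K U) where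
  toFun h := (LinearMap.mulLeft K (σ h)) ∘ₗ (LinearMap.mulRight K (σ h⁻¹))
  map_one' := by
    refine LinearMap.ext fun a => ?_
    simp
  map_mul' g h := by
    refine LinearMap.ext fun a => ?_
    simp [Module.End.mul_apply, mul_assoc]

theorem Ad_apply (σ : Representation K H U) (h : H) (a : Module.End K U) :
    Ad σ h a = σ h * a * σ h⁻¹ := by
  simp [Ad, mul_assoc]

theorem asAlgebraHom_Ad [Fintype H] (σ : Representation K H U) (e : MonoidAlgebra K H)
    (a : Module.End K U) : (Ad σ).asAlgebraHom e a = avg σ (fun h => e.coeff h) a := by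
  rw [asAlgebraHom_eq_sum, LinearMap.sum_apply, avg]
  refine Finset.sum_congr rfl fun h _ => ?_
  rw [LinearMap.smul_apply, Ad_apply]

/-- The principal part. -/
noncomputable def prinPart (σ : Representation K H U) (e : MonoidAlgebra K H) :
    Submodule K (Module.End K U) := LinearMap.range ((Ad σ).asAlgebraHom e)

theorem inv_prinPart (σ : Representation K H U) {e : MonoidAlgebra K H}
    (he : ∀ a, e * a = a * e) : Inv (Ad σ) (prinPart σ e) := by
  rintro h _ ⟨a, rfl⟩
  refine ⟨Ad σ h a, ?_⟩
  have h1 := congrArg (Ad σ).asAlgebraHom (he (MonoidAlgebra.single h 1))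
  rw [map_mul, map_mul, Representation.asAlgebraHom_single_one] at h1
  exact LinearMap.congr_fun h1 a

theorem asAlgebraHom_prinPart (σ : Representation K H U) {e : MonoidAlgebra K H}
    (he : ∀ a, e * a = a * e) (he2 : e * e = e) :
    (sub (Ad σ) (prinPart σ e) (inv_prinPart σ he)).asAlgebraHom e = 1 := by
  refine LinearMap.ext fun x => Subtype.ext ?_
  rw [coe_asAlgebraHom_sub]
  obtain ⟨_, a, rfl⟩ := x
  show (Ad σ).asAlgebraHom e ((Ad σ).asAlgebraHom e a) = (Ad σ).asAlgebraHom e a
  rw [← Module.End.mul_apply, ← map_mul, he2]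

theorem mem_ker_prinPart [Fintype H] (σ : Representation K H U) {e : MonoidAlgebra K H}
    (he : ∀ a, e * a = a * e) (k : H) :
    k ∈ MonoidHom.ker (sub (Ad σ) (prinPart σ e) (inv_prinPart σ he)) ↔
      ∀ a, σ k * avg σ (fun h => e.coeff h) a * σ k⁻¹ = avg σ (fun h => e.coeff h) a := by
  rw [MonoidHom.mem_ker]
  have h0 : ∀ a, Ad σ k ((Ad σ).asAlgebraHom e a) =
      σ k * avg σ (fun h => e.coeff h) a * σ k⁻¹ := by
    intro a
    rw [Ad_apply, asAlgebraHom_Ad]
  constructor
  · intro hk a
    have h1 : Ad σ k ((Ad σ).asAlgebraHom e a) = (Ad σ).asAlgebraHom e a :=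
      congrArg Subtype.val (LinearMap.congr_fun hk ⟨(Ad σ).asAlgebraHom e a, a, rfl⟩)
    rw [h0, asAlgebraHom_Ad] at h1
    exact h1
  · intro hk
    refine LinearMap.ext fun x => Subtype.ext ?_
    obtain ⟨_, a, rfl⟩ := x
    show Ad σ k ((Ad σ).asAlgebraHom e a) = (Ad σ).asAlgebraHom e a
    rw [h0, asAlgebraHom_Ad]
    exact hk a

end conj

section main

variable {K : Type} [Field K] {p : ℕ} [hp : Fact p.Prime] [CharP K p] {G : Type u} [Group G]
  [Finite G] {V : Type} [AddCommGroup V] [Module K V]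

omit [Finite G] in
/-- Conjugation by an element of the big group. -/
theorem avg_conj [Fintype G] (H : Subgroup G) [hH : H.Normal] [Fintype H] {U : Type*}
    [AddCommGroup U] [Module K U] (σ : Representation K G U) (e : H → K)
    (he : ∀ (φ : H ≃* H) (h : H), e (φ h) = e h) (g : G) (a : Module.End K U) :
    σ g⁻¹ * avg (σ.comp H.subtype : Representation K H U) e a * σ g =
      avg (σ.comp H.subtype : Representation K H U) e (σ g⁻¹ * a * σ g) := by
  rw [avg, avg, Finset.mul_sum, Finset.sum_mul]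
  refine (Fintype.sum_bijective (MulAut.conjNormal g : H ≃* H) (MulEquiv.bijective _) _ _
    fun h => ?_).symm
  rw [he, mul_smul_comm, smul_mul_assoc]
  congr 1
  show σ h * (σ g⁻¹ * a * σ g) * σ ((h⁻¹ : H) : G) =
    σ g⁻¹ * (σ ((MulAut.conjNormal g h : H) : G) * a * σ ((((MulAut.conjNormal g h : H))⁻¹ : H) : G))
      * σ g
  rw [Subgroup.coe_inv, Subgroup.coe_inv, MulAut.conjNormal_apply]
  have h1 : σ (g * (h : G) * g⁻¹) = σ g * σ h * σ g⁻¹ := by rw [map_mul, map_mul]
  have h2 : σ (g * (h : G) * g⁻¹)⁻¹ = σ g * σ (h : G)⁻¹ * σ g⁻¹ := by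
    rw [← map_mul, ← map_mul]
    congr 1
    group
  have h3 : σ g⁻¹ * σ g = 1 := by rw [← map_mul, inv_mul_cancel, map_one]
  rw [h1, h2]
  calc σ (h : G) * (σ g⁻¹ * a * σ g) * σ (h : G)⁻¹
      = 1 * (σ (h : G) * σ g⁻¹ * a * (σ g * σ (h : G)⁻¹)) * 1 := by
        rw [one_mul, mul_one]; simp only [mul_assoc]
    _ = _ := by rw [← h3]; simp only [mul_assoc]

omit [CharP K p] in
/-- The `p`-part of the order drops. -/
theorem factorization_lt (H : Subgroup G) (hH : H = Subgroup.closure (pElts p G)) (K₀ : Subgroup H)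
    [K₀.Normal] (h : K₀ ≠ ⊤) :
    (Nat.card (K₀.map H.subtype)).factorization p < (Nat.card G).factorization p := by
  have hdvd : p ∣ K₀.index := by
    by_contra hnd
    apply h
    rw [eq_top_iff]
    have h1 : Subgroup.closure ((Subtype.val : H → G) ⁻¹' (pElts p G)) = ⊤ := by
      subst hH
      exact Subgroup.closure_closure_coe_preimage
    rw [← h1, Subgroup.closure_le]
    rintro x ⟨k, hk⟩
    have h2 : (QuotientGroup.mk x : H ⧸ K₀) ^ p ^ k = 1 := by
      rw [← QuotientGroup.mk_pow]
      have : x ^ p ^ k = 1 := Subtype.ext (by simpa using hk)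
      rw [this]
      rfl
    have h3 : (QuotientGroup.mk x : H ⧸ K₀) ^ K₀.index = 1 := by
      rw [Subgroup.index_eq_card, pow_card_eq_one']
    have h4 : (QuotientGroup.mk x : H ⧸ K₀) = 1 := by
      rw [← orderOf_eq_one_iff]
      have h5 := Nat.dvd_gcd (orderOf_dvd_of_pow_eq_one h2) (orderOf_dvd_of_pow_eq_one h3)
      rw [Nat.Coprime.gcd_eq_one (Nat.Coprime.pow_left k ((hp.out.coprime_iff_not_dvd).2 hnd))] at h5
      exact Nat.dvd_one.1 h5
    exact (QuotientGroup.eq_one_iff x).1 h4
  have hcard : Nat.card (K₀.map H.subtype) = Nat.card K₀ :=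
    Nat.card_congr (K₀.equivMapOfInjective H.subtype H.subtype_injective).symm.toEquiv
  have h1 := K₀.card_mul_index
  have hi0 : K₀.index ≠ 0 := Subgroup.index_ne_zero_of_finite
  have h2 : (Nat.card H).factorization p =
      (Nat.card K₀).factorization p + K₀.index.factorization p := by
    rw [← h1, Nat.factorization_mul Nat.card_pos.ne' hi0]
    rfl
  have h3 : 0 < K₀.index.factorization p := hp.out.factorization_pos_of_dvd hi0 hdvd
  have h4 := factorization_le_of_dvd Nat.card_pos.ne' (Subgroup.card_subgroup_dvd_card H) p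
  rw [hcard]
  omega

omit [CharP K p] in
/-- The core of `exists_kernel`. -/
theorem exists_kernel_core (hI : ImageBound.{u} K p) {m : ℕ} {U : Type}
    [AddCommGroup U] [Module K U] [FiniteDimensional K U] (σ : Representation K G U)
    (H : Subgroup G) [hHn : H.Normal] (hH : H = Subgroup.closure (pElts p G)) [Fintype H]
    (hm : (Nat.card G).factorization p ≤ m)
    (hnc : ∀ e : H → K, ∑ h, e h = 1 → ∃ (a : Module.End K U) (h : H),
      (σ.comp H.subtype : Representation K H U) h *
        avg (σ.comp H.subtype : Representation K H U) e a ≠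
      avg (σ.comp H.subtype : Representation K H U) e a *
        (σ.comp H.subtype : Representation K H U) h) :
    ∃ K₀ : Subgroup G, K₀.Normal ∧ K₀ ≤ H ∧
      K₀.relIndex H ≤ (p ^ m * p ^ (p ^ m) ^ 2) ^ (finrank K (Module.End K U) ^ 2) ∧
      (Nat.card K₀).factorization p < (Nat.card G).factorization p := by
  classical
  have := Fintype.ofFinite G
  set σH : Representation K H U := σ.comp H.subtype with hσH
  have hfd : FiniteDimensional K (MonoidAlgebra K H) := inferInstance
  obtain ⟨e, he⟩ := exists_isPrin (K := K) (aug K H)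
  have hecoeff : ∀ (φ : H ≃* H) (h : H), e.coeff (φ h) = e.coeff h := fun φ h => coeff_aut he φ h
  have hesum : ∑ h : H, e.coeff h = 1 := by rw [← aug_apply, he.aug]
  set K₀ : Subgroup H := MonoidHom.ker (sub (Ad σH) (prinPart σH e) (inv_prinPart σH he.comm))
    with hK₀
  have hmem : ∀ k : H, k ∈ K₀ ↔ ∀ a, σH k * avg σH (fun h => e.coeff h) a * σH k⁻¹ =
      avg σH (fun h => e.coeff h) a := fun k => mem_ker_prinPart σH he.comm k
  -- index
  have hKi : K₀.index ≤ (p ^ m * p ^ (p ^ m) ^ 2) ^ (finrank K (Module.End K U) ^ 2) := by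
    have h1 := hI H e he (prinPart σH e) _ (asAlgebraHom_prinPart σH he.comm he.idem)
    have h2 : finrank K (prinPart σH e) ≤ finrank K (Module.End K U) := Submodule.finrank_le _
    have h3 : (Nat.card H).factorization p ≤ m :=
      (factorization_le_of_dvd Nat.card_pos.ne' (Subgroup.card_subgroup_dvd_card H) p).trans hm
    have hp1 := hp.out.pos
    have h4 : p ^ (Nat.card H).factorization p ≤ p ^ m := Nat.pow_le_pow_right hp1 h3
    refine h1.trans ?_
    calc _ ≤ (p ^ m * p ^ (p ^ m) ^ 2) ^ (finrank K (prinPart σH e) ^ 2) := by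
          apply Nat.pow_le_pow_left
          exact Nat.mul_le_mul h4 (Nat.pow_le_pow_right hp1 (Nat.pow_le_pow_left h4 2))
      _ ≤ _ := by
          apply Nat.pow_le_pow_right
          · positivity
          · exact Nat.pow_le_pow_left h2 2
  -- properness
  have hKtop : K₀ ≠ ⊤ := by
    intro htop
    obtain ⟨a, h, hah⟩ := hnc (fun h => e.coeff h) hesum
    apply hah
    have h1 := (hmem h).1 (htop ▸ Subgroup.mem_top h) a
    have h2 : σH h⁻¹ * σH h = 1 := by rw [← map_mul, inv_mul_cancel, map_one]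
    calc σH h * avg σH (fun h => e.coeff h) a
        = (σH h * avg σH (fun h => e.coeff h) a * σH h⁻¹) * σH h := by
          rw [mul_assoc _ (σH h⁻¹), h2, mul_one]
      _ = _ := by rw [h1]
  refine ⟨K₀.map H.subtype, ?_, Subgroup.map_subtype_le K₀, ?_, factorization_lt H hH K₀ hKtop⟩
  · -- normality
    refine ⟨?_⟩
    rintro _ ⟨k, hk, rfl⟩ g
    refine ⟨MulAut.conjNormal g k, ?_, MulAut.conjNormal_apply g k⟩
    rw [SetLike.mem_coe, hmem] at hk ⊢
    intro a
    have h1 := avg_conj H σ (fun h => e.coeff h) hecoeff g a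
    have h2 := hk (σ g⁻¹ * a * σ g)
    have hs : σ g * σ g⁻¹ = 1 := by rw [← map_mul, mul_inv_cancel, map_one]
    have h3 : σH (MulAut.conjNormal g k) = σ g * σH k * σ g⁻¹ := by
      show σ ((MulAut.conjNormal g k : H) : G) = σ g * σ (k : G) * σ g⁻¹
      rw [MulAut.conjNormal_apply, map_mul, map_mul]
    have h4 : σH (MulAut.conjNormal g k)⁻¹ = σ g * σH k⁻¹ * σ g⁻¹ := by
      show σ (((MulAut.conjNormal g k : H)⁻¹ : H) : G) = σ g * σ ((k⁻¹ : H) : G) * σ g⁻¹
      rw [Subgroup.coe_inv, MulAut.conjNormal_apply, Subgroup.coe_inv, ← map_mul, ← map_mul]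
      congr 1
      group
    rw [h3, h4]
    calc σ g * σH k * σ g⁻¹ * avg σH (fun h => e.coeff h) a * (σ g * σH k⁻¹ * σ g⁻¹)
        = σ g * (σH k * (σ g⁻¹ * avg σH (fun h => e.coeff h) a * σ g) * σH k⁻¹) * σ g⁻¹ := by
          simp only [mul_assoc]
      _ = σ g * (σ g⁻¹ * avg σH (fun h => e.coeff h) a * σ g) * σ g⁻¹ := by
          rw [h1, h2]
      _ = (σ g * σ g⁻¹) * avg σH (fun h => e.coeff h) a * (σ g * σ g⁻¹) := by
          simp only [mul_assoc]
      _ = avg σH (fun h => e.coeff h) a := by rw [hs, one_mul, mul_one]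
  · have h1 : (K₀.map H.subtype).relIndex H = K₀.index := by
      rw [Subgroup.relIndex, Subgroup.subgroupOf, Subgroup.comap_map_eq_self_of_injective
        H.subtype_injective]
    rw [h1]
    exact hKi

end main

/-- A normal subgroup of bounded index in the group generated by the `p`-elements, with smaller
Sylow `p`-subgroups. -/
theorem exists_kernel {K : Type} [Field K] {p : ℕ} [hp : Fact p.Prime] [CharP K p]
    [IsAlgClosed K] (hI : ImageBound.{u} K p) (m d : ℕ) : ∃ b : ℕ,
    ∀ (G : Type u) [Group G] [Finite G] (V : Type) [AddCommGroup V] [Module K V]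
    [FiniteDimensional K V] (ρ : Representation K G V), Function.Injective ρ → finrank K V = d →
    (Nat.card G).factorization p ≤ m → p ∣ Nat.card G →
    ∃ K₀ : Subgroup G, K₀.Normal ∧ K₀ ≤ Subgroup.closure (pElts p G) ∧
      K₀.relIndex (Subgroup.closure (pElts p G)) ≤ b ∧
      (Nat.card K₀).factorization p < (Nat.card G).factorization p := by
  obtain ⟨i, hi⟩ := exists_not_commute.{0, u} K p d
  refine ⟨(p ^ m * p ^ (p ^ m) ^ 2) ^
    (finrank K (Module.End K ((Fin i → Fin (p - 1) → Fin d) → K)) ^ 2),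
    fun G _ _ V _ _ _ ρ hρ hd hm hpG => ?_⟩
  classical
  set H := Subgroup.closure (pElts p G) with hH
  have hHn : H.Normal := closure_pElts_normal
  have := Fintype.ofFinite H
  subst hd
  have hM : ∃ ρG : G →* Matrix (Fin (finrank K V)) (Fin (finrank K V)) K, ∀ g, ρG g = 1 → g = 1 := by
    refine ⟨((LinearMap.toMatrixAlgEquiv (finBasis K V) : Module.End K V ≃ₐ[K] _) : _ →* _).comp ρ,
      fun g hg => hρ ?_⟩
    rw [map_one]
    apply (LinearMap.toMatrixAlgEquiv (finBasis K V)).injective
    rw [map_one]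
    exact hg
  obtain ⟨ρG, hρG⟩ := hM
  refine exists_kernel_core hI (big p (finrank K V) i ρG) H hH hm fun e he => ?_
  obtain ⟨x, hx⟩ := exists_prime_orderOf_dvd_card' p hpG
  have hxp : x ^ p = 1 := by rw [← hx, pow_orderOf_eq_one]
  have hxH : x ∈ H := Subgroup.subset_closure ⟨1, by rw [pow_one, hxp]⟩
  exact hi H (ρG.comp H.subtype) ⟨x, hxH⟩ (Subtype.ext (by simpa using hxp)) (fun h1 => by
    have h4 : x = 1 := hρG x h1
    rw [h4, orderOf_one] at hx
    exact hp.out.one_lt.ne hx) e he

end Cfsg.Agent.H662.BF
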