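import Mathlib

/-!
# The principal idempotent

`A` is a finite-dimensional algebra and `ε : A →+* K` a homomorphism.  `IsPrin ε e` says that `e` is
the least central idempotent with `ε e = 1`.  It exists (`exists_isPrin`), is unique
(`IsPrin.unique`), hence invariant under automorphisms (`IsPrin.map_eq`), and divisible by each
central element `y` with `ε y ≠ 0` (`IsPrin.exists_eq_mul`).
-/

set_option autoImplicit false
open Module

namespace Cfsg.Agent.H662

/-- The least central idempotent on which `ε` is `1`. -/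
structure IsPrin {A K : Type*} [Ring A] [Ring K] (ε : A →+* K) (e : A) : Prop where
  comm : ∀ a, e * a = a * e
  idem : e * e = e
  aug : ε e = 1
  least : ∀ f : A, (∀ a, f * a = a * f) → f * f = f → ε f = 1 → e * f = e

namespace IsPrin

section

variable {A K : Type*} [Ring A] [Ring K] {ε : A →+* K}

theorem unique {e e' : A} (h : IsPrin ε e) (h' : IsPrin ε e') : e = e' := by
  have h1 := h.least e' h'.comm h'.idem h'.aug
  have h2 := h'.least e h.comm h.idem h.aug
  rw [← h1, h.comm e', h2]

theorem map_eq {e : A} (h : IsPrin ε e) (σ : A ≃+* A) (hσ : ∀ a, ε (σ a) = 1 ↔ ε a = 1) :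
    σ e = e := by
  refine unique ⟨fun a => ?_, ?_, (hσ e).2 h.aug, fun f hf hf2 hf1 => ?_⟩ h
  · obtain ⟨b, rfl⟩ := σ.surjective a
    rw [← map_mul, h.comm, map_mul]
  · rw [← map_mul, h.idem]
  · obtain ⟨f', rfl⟩ := σ.surjective f
    have h1 : ∀ a, f' * a = a * f' := by
      intro a
      apply σ.injective
      rw [map_mul, hf, map_mul]
    have h2 : f' * f' = f' := by
      apply σ.injective
      rw [map_mul, hf2]
    rw [← map_mul, h.least f' h1 h2 ((hσ f').1 hf1)]

end

variable {A K : Type*} [Field K] [Ring A] [Algebra K A] [FiniteDimensional K A] {ε : A →+* K}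

/-- A central element on which `ε` is nonzero divides the principal idempotent. -/
theorem exists_eq_mul {e : A} (h : IsPrin ε e) {y : A} (hy : ∀ a, y * a = a * y)
    (hy0 : ε y ≠ 0) : ∃ c, e = y * c := by
  have h1 := (LinearMap.eventually_isCompl_ker_pow_range_pow (LinearMap.mulLeft K y)).and
    (Filter.eventually_ge_atTop 1)
  obtain ⟨n, hn, hn1⟩ := h1.exists
  have h2 : (1 : A) ∈ LinearMap.ker (LinearMap.mulLeft K y ^ n) ⊔
      LinearMap.range (LinearMap.mulLeft K y ^ n) := by
    rw [hn.sup_eq_top]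
    exact Submodule.mem_top
  obtain ⟨a, ha, _, ⟨b, rfl⟩, hab⟩ := Submodule.mem_sup.1 h2
  rw [LinearMap.mem_ker, LinearMap.pow_mulLeft, LinearMap.mulLeft_apply] at ha
  rw [LinearMap.pow_mulLeft, LinearMap.mulLeft_apply] at hab
  have hyn : ∀ a, y ^ n * a = a * y ^ n := fun a => ((show Commute y a from hy a).pow_left n).eq
  have hz : y ^ n * (y ^ n * b) = y ^ n := by
    have := congrArg (fun t => y ^ n * t) hab
    simp only [mul_add, ha, zero_add, mul_one] at this
    exact this
  set f : A := y ^ n * b with hf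
  have hfy : f * y ^ n = y ^ n := by rw [← hyn, hz]
  have hff : f * f = f := by
    rw [hf]
    calc y ^ n * b * (y ^ n * b) = (y ^ n * (y ^ n * b)) * b := by
          rw [mul_assoc, ← mul_assoc b, ← hyn b]
          simp only [mul_assoc]
      _ = y ^ n * b := by rw [hz]
  have hfa : ∀ a, f * a = a * f := by
    intro a
    have e1 : f * (a * f) = a * f := by
      have e3 : a * f = y ^ n * (a * b) := by rw [hf, ← mul_assoc, ← hyn, mul_assoc]
      rw [e3, ← mul_assoc, hfy]
    have e2 : (f * a) * f = f * a := by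
      have e3 : f * a = (b * a) * y ^ n := by
        rw [hf, hyn b, mul_assoc, hyn a, mul_assoc]
      rw [e3, mul_assoc, hz]
    rw [← e2, mul_assoc, e1]
  have hef : ε f = 1 := by
    have h3 : ε y ^ n * ε f = ε y ^ n * 1 := by
      rw [mul_one, ← map_pow, ← map_mul, hz]
    exact mul_left_cancel₀ (pow_ne_zero n hy0) h3
  have h4 := h.least f hfa hff hef
  refine ⟨y ^ (n - 1) * b * e, ?_⟩
  rw [← mul_assoc, ← mul_assoc, ← pow_succ', Nat.sub_add_cancel hn1, ← hf, ← h.comm f, h4]

/-- Existence of the principal idempotent. -/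
theorem _root_.Cfsg.Agent.H662.exists_isPrin (ε : A →+* K) : ∃ e : A, IsPrin ε e := by
  classical
  let P : ℕ → Prop := fun d => ∃ f : A, (∀ a, f * a = a * f) ∧ f * f = f ∧ ε f = 1 ∧
    finrank K (LinearMap.range (LinearMap.mulLeft K f)) = d
  have hP : ∃ d, P d := ⟨_, 1, fun a => by rw [one_mul, mul_one], one_mul 1, map_one ε, rfl⟩
  obtain ⟨e, he1, he2, he3, he4⟩ := Nat.find_spec hP
  refine ⟨e, he1, he2, he3, fun f hf1 hf2 hf3 => ?_⟩
  have h1 : ∀ a, (e * f) * a = a * (e * f) := by
    intro a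
    rw [mul_assoc, hf1, ← mul_assoc, he1, mul_assoc]
  have h2 : (e * f) * (e * f) = e * f := by
    rw [mul_assoc, ← mul_assoc f, ← he1 f, mul_assoc e f f, hf2, ← mul_assoc, he2]
  have h3 : ε (e * f) = 1 := by rw [map_mul, he3, hf3, mul_one]
  have h4 : Nat.find hP ≤ finrank K (LinearMap.range (LinearMap.mulLeft K (e * f))) :=
    Nat.find_min' hP ⟨e * f, h1, h2, h3, rfl⟩
  have h5 : LinearMap.range (LinearMap.mulLeft K (e * f)) ≤
      LinearMap.range (LinearMap.mulLeft K e) := by
    rintro _ ⟨a, rfl⟩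
    exact ⟨f * a, by rw [LinearMap.mulLeft_apply, LinearMap.mulLeft_apply, mul_assoc]⟩
  have h6 := Submodule.eq_of_le_of_finrank_le h5 (he4 ▸ h4)
  have h7 : e ∈ LinearMap.range (LinearMap.mulLeft K (e * f)) := by
    rw [h6]
    exact ⟨e, by rw [LinearMap.mulLeft_apply, he2]⟩
  obtain ⟨b, hb⟩ := h7
  rw [LinearMap.mulLeft_apply] at hb
  have h8 : (e * f) * e = e := by
    calc (e * f) * e = (e * f) * ((e * f) * b) := by rw [hb]
      _ = e := by rw [← mul_assoc, h2, hb]
  rw [mul_assoc, ← he1, ← mul_assoc, he2] at h8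
  exact h8

end IsPrin

end Cfsg.Agent.H662
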