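import Mathlib
import Cfsg.Agent.H662.Burnside
import Cfsg.Agent.H662.PrinIdem
import Cfsg.Agent.H659.BlockBound
import Cfsg.Agent.Blocks.BlockRank
import Cfsg.Agent.Blocks.CyclicAssembly
import Cfsg.Agent.Characters.ClassMul

/-!
# Irreducible representations in the principal block

* `aug` : the augmentation of the group algebra;
* `asAlgebraHom_eq_aug` : central elements act through the augmentation on an irreducible
  representation on which the principal idempotent is the identity;
* `card_le` : there are at most `|H|_p ^ 2` of these over the residue field.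
-/

set_option autoImplicit false
open Module Cfsg

namespace Cfsg.Agent.H662.PrinRep

open Cfsg.Agent.H662.KeyAbs Cfsg.Agent.Blocks.Central Cfsg.Agent.Blocks.Local

/-- The augmentation. -/
noncomputable def aug (K H : Type*) [Field K] [Group H] : MonoidAlgebra K H →+* K :=
  (MonoidAlgebra.lift K K H (1 : H →* K) : MonoidAlgebra K H →ₐ[K] K).toRingHom

section general

variable {K : Type*} [Field K] {H : Type*} [Group H]

theorem aug_apply [Fintype H] (a : MonoidAlgebra K H) : aug K H a = ∑ g, a.coeff g := by
  show MonoidAlgebra.lift K K H (1 : H →* K) a = _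
  rw [MonoidAlgebra.lift_apply, Finsupp.sum_fintype _ _ (by simp)]
  simp

theorem aug_smul (c : K) (a : MonoidAlgebra K H) : aug K H (c • a) = c * aug K H a := by
  show MonoidAlgebra.lift K K H (1 : H →* K) (c • a) = _
  rw [map_smul, smul_eq_mul]
  rfl

theorem aug_classSum [Finite H] (g : H) : aug K H (classSum K g) =
    ((Subgroup.centralizer ({g} : Set H)).index : K) := by
  classical
  have := Fintype.ofFinite H
  rw [aug_apply]
  have h1 : ∑ x : H, (classSum K g).coeff x = ∑ x ∈ Finset.univ.filter (IsConj g), (1 : K) := by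
    rw [Finset.sum_filter]
    refine Finset.sum_congr rfl fun x _ => ?_
    rw [coeff_classSum]
    split_ifs <;> rfl
  rw [h1, Finset.sum_const, nsmul_eq_mul, mul_one]
  congr 1
  have h := Cfsg.Agent.Characters.ClassMul.card_filter_isConj g
  rw [← h]

variable {V : Type*} [AddCommGroup V] [Module K V] [FiniteDimensional K V]

/-- Schur's lemma. -/
theorem exists_scalar_of_irreducible [IsAlgClosed K] (ρ : Representation K H V)
    (hirr : ρ.IsIrreducible) (f : Module.End K V) (hf : ∀ h, ρ h * f = f * ρ h) :
    ∃ c : K, f = c • 1 := by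
  obtain ⟨hnt, h⟩ := (isIrreducible_iff ρ).1 hirr
  have hmin : MinInv ρ ⊤ := by
    refine ⟨fun g v _ => Submodule.mem_top, top_ne_bot, fun S hS _ h0 => ?_⟩
    exact (h S hS).resolve_left h0
  obtain ⟨c, hc⟩ := exists_scalar ρ hmin f hf fun v _ => Submodule.mem_top
  exact ⟨c, LinearMap.ext fun v => hc v Submodule.mem_top⟩

/-- Central elements act through the augmentation on principal irreducibles. -/
theorem asAlgebraHom_eq_aug [IsAlgClosed K] [Finite H] {e : MonoidAlgebra K H}
    (he : IsPrin (aug K H) e) (ρ : Representation K H V) (hirr : ρ.IsIrreducible)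
    (h1 : ρ.asAlgebraHom e = 1) {z : MonoidAlgebra K H} (hz : ∀ a, z * a = a * z) :
    ρ.asAlgebraHom z = aug K H z • 1 := by
  obtain ⟨hnt, -⟩ := (isIrreducible_iff ρ).1 hirr
  obtain ⟨c, hc⟩ := exists_scalar_of_irreducible ρ hirr (ρ.asAlgebraHom z) (by
    intro h
    rw [← Representation.asAlgebraHom_single_one, ← map_mul, ← map_mul, hz])
  suffices h : aug K H z = c by rw [hc, h]
  have hfd : FiniteDimensional K (MonoidAlgebra K H) := inferInstance
  by_contra hne
  have hy : ∀ a, (z - c • 1) * a = a * (z - c • 1) := by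
    intro a
    rw [sub_mul, mul_sub, hz, smul_mul_assoc, one_mul, mul_smul_comm, mul_one]
  have hy0 : aug K H (z - c • 1) ≠ 0 := by
    rw [map_sub, aug_smul, map_one, mul_one]
    exact sub_ne_zero.2 hne
  obtain ⟨b, hb⟩ := he.exists_eq_mul hy hy0
  have h2 := congrArg ρ.asAlgebraHom hb
  rw [map_mul, map_sub, hc, map_smul, map_one, sub_self, zero_mul, h1] at h2
  exact one_ne_zero h2

end general

section block

universe u

variable {H : Type u} [Group H] [Finite H] {p : ℕ} [Fact p.Prime] {M : Ideal AlgInt}
  [hP : M.IsPrime]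

/-- The number of principal irreducible representations. -/
theorem card_le (hM : IsPModular p M) {e : MonoidAlgebra (ResField M) H}
    (he : IsPrin (aug (ResField M) H) e) {ι : Type*} [Finite ι] {V : ι → Type*}
    [∀ i, AddCommGroup (V i)] [∀ i, Module (ResField M) (V i)]
    [∀ i, FiniteDimensional (ResField M) (V i)]
    (ρ : ∀ i, Representation (ResField M) H (V i)) (hirr : ∀ i, (ρ i).IsIrreducible)
    (hne : ∀ i j, i ≠ j → IsEmpty (Representation.Equiv (ρ i) (ρ j)))
    (h1 : ∀ i, (ρ i).asAlgebraHom e = 1) :
    Nat.card ι ≤ (p ^ (Nat.card H).factorization p) ^ 2 := by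
  have hmax : M.IsMaximal := isMaximal_of_isPModular hM
  have halg : IsAlgClosed (ResField M) := Cfsg.Agent.Blocks.CyclicAssembly.isAlgClosed_resField
  set χ₀ : IrrCharacter H := ⟨fun _ => 1, Cfsg.Agent.Characters.Core.isIrr_one⟩ with hχ₀
  have hB : IsPBlock M (blockOf M (χ₀ : H → ℂ)) := ⟨χ₀, rfl⟩
  have h2 := Cfsg.Agent.Blocks.BlockRank.add_le_card hM hB
    (Cfsg.Agent.Blocks.Basic.mem_blockOf_self χ₀) ρ hirr hne
    (fun i g => by
      have hz : ∀ a : MonoidAlgebra (ResField M) H,
          classSum (ResField M) g * a = a * classSum (ResField M) g := fun a =>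
        ((Subalgebra.mem_center_iff.1 (classSum_mem_center g)) a).symm
      rw [asAlgebraHom_eq_aug he (ρ i) (hirr i) (h1 i) hz, aug_classSum]
      congr 1
      have h3 : centralChar (χ₀ : H → ℂ) g =
          (((Subgroup.centralizer ({g} : Set H)).index : ℕ) : ℂ) := by
        unfold centralChar
        rw [hχ₀]
        simp
      rw [h3, redC_natCast])
    (κ := Empty) (fun j => j.elim) (fun j => j.elim) (fun j => j.elim) (fun j => j.elim)
    (linearIndependent_empty_type)
  have h3 := Cfsg.Agent.H659.BlockBound.card_block_le hM _ hB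
  rw [Nat.card_eq_zero.2 (Or.inl (inferInstance : IsEmpty Empty)), add_zero] at h2
  exact h2.trans h3

end block

end Cfsg.Agent.H662.PrinRep
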