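import Mathlib

/-!
# Specialization of representations

A faithful matrix representation of a finite group over a field of characteristic `p` gives a
faithful one of the same degree over every algebraically closed field of characteristic `p`.
-/

set_option autoImplicit false
open Module

namespace Cfsg.Agent.H662.Specialize

/-- A finitely generated domain over `ZMod p` maps to every algebraically closed field of
characteristic `p`. -/
theorem exists_hom (p : ℕ) [Fact p.Prime] (S : Type*) [CommRing S] [Nontrivial S]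
    [Algebra (ZMod p) S] [Algebra.FiniteType (ZMod p) S] (K : Type*) [Field K] [IsAlgClosed K]
    [CharP K p] : Nonempty (S →+* K) := by
  obtain ⟨m, hm⟩ := Ideal.exists_maximal S
  let _ : Field (S ⧸ m) := Ideal.Quotient.field m
  have h1 : Algebra.FiniteType (ZMod p) (S ⧸ m) :=
    Algebra.FiniteType.of_surjective (Ideal.Quotient.mkₐ (ZMod p) m)
      (Ideal.Quotient.mkₐ_surjective _ _)
  have h2 : Module.Finite (ZMod p) (S ⧸ m) := finite_of_finite_type_of_isJacobsonRing _ _
  let _ : Algebra (ZMod p) K := ZMod.algebra K p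
  have h3 : Algebra.IsAlgebraic (ZMod p) (S ⧸ m) := Algebra.IsAlgebraic.of_finite _ _
  let f : (S ⧸ m) →ₐ[ZMod p] K := IsAlgClosed.lift
  exact ⟨f.toRingHom.comp (Ideal.Quotient.mk m)⟩

theorem exists_matrix_rep (p : ℕ) [Fact p.Prime] {F : Type*} [Field F] [CharP F p] {G : Type*}
    [Group G] [Finite G] {n : ℕ} (μ : G →* Matrix (Fin n) (Fin n) F)
    (hμ : Function.Injective μ) (K : Type*) [Field K] [IsAlgClosed K] [CharP K p] :
    ∃ τ : G →* Matrix (Fin n) (Fin n) K, Function.Injective τ := by
  classical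
  have := Fintype.ofFinite G
  let _ : Algebra (ZMod p) F := ZMod.algebra F p
  -- nonzero entries
  have hex : ∀ g : {g : G // g ≠ 1}, ∃ ij : Fin n × Fin n, (μ g - 1) ij.1 ij.2 ≠ 0 := by
    intro g
    have h1 : μ g - 1 ≠ 0 := fun h => g.2 (hμ (by rw [sub_eq_zero.1 h, map_one]))
    by_contra hcon
    push Not at hcon
    apply h1
    ext i j
    exact hcon (i, j)
  choose ij hij using hex
  set d : F := ∏ g : {g : G // g ≠ 1}, (μ g - 1) (ij g).1 (ij g).2 with hd
  have hd0 : d ≠ 0 := Finset.prod_ne_zero_iff.2 fun g _ => hij g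
  set T : Finset F := (Finset.univ.image fun x : G × Fin n × Fin n => μ x.1 x.2.1 x.2.2) ∪ {d⁻¹}
    with hT
  set S := Algebra.adjoin (ZMod p) (T : Set F) with hS
  have hFT : Algebra.FiniteType (ZMod p) S :=
    (Subalgebra.fg_iff_finiteType S).1 (Subalgebra.fg_adjoin_finset T)
  obtain ⟨φ⟩ := exists_hom p S K
  have hmem : ∀ g i j, μ g i j ∈ S := fun g i j => Algebra.subset_adjoin (by
    rw [hT, Finset.mem_coe, Finset.mem_union]
    exact Or.inl (Finset.mem_image.2 ⟨(g, i, j), Finset.mem_univ _, rfl⟩))
  have hdinv : d⁻¹ ∈ S := Algebra.subset_adjoin (by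
    rw [hT, Finset.mem_coe, Finset.mem_union]
    exact Or.inr (Finset.mem_singleton_self _))
  let μS : G →* Matrix (Fin n) (Fin n) S :=
    { toFun := fun g => Matrix.of fun i j => ⟨μ g i j, hmem g i j⟩
      map_one' := by
        ext i j
        rw [Matrix.of_apply, Matrix.one_apply]
        simp only [map_one, Matrix.one_apply]
        split_ifs <;> rfl
      map_mul' := fun g h => by
        ext i j
        rw [Matrix.of_apply, Matrix.mul_apply]
        simp only [map_mul, Matrix.mul_apply, Matrix.of_apply, AddSubmonoidClass.coe_finsetSum,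
          MulMemClass.coe_mul] }
  have hμS : ∀ g i j, ((μS g i j : S) : F) = μ g i j := fun g i j => rfl
  refine ⟨(φ.mapMatrix : Matrix (Fin n) (Fin n) S →+* Matrix (Fin n) (Fin n) K).toMonoidHom.comp μS,
    ?_⟩
  rw [injective_iff_map_eq_one]
  intro g hg
  by_contra hg1
  set dS : S := ∏ g : {g : G // g ≠ 1}, (μS g - 1) (ij g).1 (ij g).2 with hdS
  have h1 : (dS : F) = d := by
    rw [hdS, hd, SubmonoidClass.coe_finsetProd]
    refine Finset.prod_congr rfl fun x _ => ?_
    rw [Matrix.sub_apply, Matrix.sub_apply, AddSubgroupClass.coe_sub, hμS, Matrix.one_apply,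
      Matrix.one_apply]
    split_ifs <;> rfl
  have h2 : dS * ⟨d⁻¹, hdinv⟩ = 1 := by
    apply Subtype.ext
    rw [MulMemClass.coe_mul, h1]
    exact mul_inv_cancel₀ hd0
  have h3 : φ dS ≠ 0 := by
    intro h0
    have := congrArg φ h2
    rw [map_mul, h0, zero_mul, map_one] at this
    exact zero_ne_one this
  apply h3
  rw [hdS, map_prod]
  refine Finset.prod_eq_zero (Finset.mem_univ (⟨g, hg1⟩ : {g : G // g ≠ 1})) ?_
  have h4 : φ.mapMatrix (μS g) = 1 := hg
  have h5 : φ.mapMatrix (μS g - 1) = 0 := by rw [map_sub, h4, map_one, sub_self]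
  exact congrFun (congrFun h5 _) _

end Cfsg.Agent.H662.Specialize
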